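import Groth.Agent.Curves.K329.Curve
import Groth.Agent.RatCurve.K915.Luroth

/-!
# Factoring a rational curve through its normalisation (Lüroth)

`exists_factor`: a nonconstant `f : P¹ ⟶ X` over an algebraically closed field factors as `h ≫ g` with `h` surjective and
`g` inducing a surjection on the local rings at the generic point.
-/

set_option autoImplicit false
universe u

open CategoryTheory AlgebraicGeometry IsLocalRing

namespace K988.LurFact

open CohB1 K329.P1Gen K329.Curve

variable {k : Type u} [Field k]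

/-- The morphism `Spec κ(x) ⟶ X ⟶ Spec k` on rings. -/
theorem exists_aL {X : Scheme.{u}} (pX : X ⟶ Spec (CommRingCat.of k)) (x : X) :
    ∃ aL : k →+* X.residueField x, X.fromSpecResidueField x ≫ pX = Spec.map (CommRingCat.ofHom aL) :=
  ⟨(Spec.preimage (X.fromSpecResidueField x ≫ pX)).hom, by
    rw [CommRingCat.ofHom_hom, Spec.map_preimage]⟩

theorem isClosed_of_surjective {X : Scheme.{u}} (pX : X ⟶ Spec (CommRingCat.of k)) [LocallyOfFiniteType pX] (x : X)
    (aL : k →+* X.residueField x) (h : X.fromSpecResidueField x ≫ pX = Spec.map (CommRingCat.ofHom aL))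
    (hs : Function.Surjective aL) : IsClosed ({x} : Set X) := by
  have : JacobsonSpace X := LocallyOfFiniteType.jacobsonSpace pX
  rw [isClosed_singleton_iff_locallyOfFiniteType]
  have h1 : LocallyOfFiniteType (X.fromSpecResidueField x ≫ pX) := by
    rw [h]
    have h2 : aL.FiniteType := RingHom.FiniteType.of_surjective aL hs
    exact (HasRingHomProperty.Spec_iff (P := @LocallyOfFiniteType)).2 h2
  exact locallyOfFiniteType_of_comp _ pX

theorem exists_gen (k : Type u) [Field k] :
    ∃ z : Spec (CommRingCat.of (RatFunc k)), genP k z = genericPoint (ProjSpace 1 k) :=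
  ⟨closedPoint (RatFunc k), genP_closedPoint k⟩

theorem surjective_of_genP (h : ProjSpace 1 k ⟶ ProjSpace 1 k) (hh : h ≫ ProjSpace.toSpec 1 k = ProjSpace.toSpec 1 k)
    (χ : RatFunc k →+* RatFunc k) (hχ : genP k ≫ h = Spec.map (CommRingCat.ofHom χ) ≫ genP k) :
    Function.Surjective h := by
  have : IsProper (ProjSpace.toSpec 1 k) := Groth.Agent.Dix.ProjProper.isProper_toSpec 1 k
  have hp : IsProper (h ≫ ProjSpace.toSpec 1 k) := by rw [hh]; infer_instance
  have hp' : IsProper h := IsProper.of_comp h (ProjSpace.toSpec 1 k)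
  obtain ⟨z, hz⟩ := exists_gen k
  have h1 : h (genericPoint (ProjSpace 1 k)) = genericPoint (ProjSpace 1 k) := by
    rw [← hz, ← Scheme.Hom.comp_apply, hχ, Scheme.Hom.comp_apply]
    congr 1
    exact Subsingleton.elim _ _
  have h2 : IsClosed (Set.range h) := h.isClosedMap.isClosed_range
  rw [← Set.range_eq_univ]
  refine Set.eq_univ_of_univ_subset ?_
  rw [← genericPoint_closure]
  refine closure_minimal ?_ h2
  rw [Set.singleton_subset_iff]
  exact ⟨_, h1⟩

theorem surjective_stalkMap {X : Scheme.{u}} (x : X) (ψ : X.residueField x ≃+* RatFunc k) (g : ProjSpace 1 k ⟶ X)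
    (hg : genP k ≫ g = Spec.map (CommRingCat.ofHom (ψ : X.residueField x →+* RatFunc k)) ≫ X.fromSpecResidueField x) :
    Function.Surjective (g.stalkMap (genericPoint (ProjSpace 1 k))) := by
  have key : ∀ z, Function.Surjective ((genP k ≫ g).stalkMap z) := by
    intro z
    rw [hg]
    have h1 : IsIso (CommRingCat.ofHom (ψ : X.residueField x →+* RatFunc k)) :=
      (ConcreteCategory.isIso_iff_bijective _).2 ψ.bijective
    exact (inferInstance : IsPreimmersion (Spec.map (CommRingCat.ofHom (ψ : X.residueField x →+* RatFunc k)) ≫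
      X.fromSpecResidueField x)).1.1 z
  obtain ⟨z, hz⟩ := exists_gen k
  have h2 := key z
  rw [Scheme.Hom.stalkMap_comp] at h2
  have h3 : ∀ y, y = genericPoint (ProjSpace 1 k) → IsField ((ProjSpace 1 k).presheaf.stalk y) := by
    rintro _ rfl
    exact Field.toIsField ((ProjSpace 1 k).functionField)
  have h4 := h3 _ hz
  have h5 : Function.Injective ((genP k).stalkMap z) := by
    let _ := h4.toField
    exact RingHom.injective ((genP k).stalkMap z).hom
  have h6 : Function.Surjective (g.stalkMap (genP k z)) := by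
    intro a
    obtain ⟨b, hb⟩ := h2 ((genP k).stalkMap z a)
    exact ⟨b, h5 hb⟩
  rwa [hz] at h6

theorem exists_factor [IsAlgClosed k] {X : Scheme.{u}} (pX : X ⟶ Spec (CommRingCat.of k)) [IsProper pX]
    (f : ProjSpace 1 k ⟶ X) (hf : f ≫ pX = ProjSpace.toSpec 1 k) (hnc : ¬ ∃ x : X, Set.range f.base ⊆ {x}) :
    ∃ (g : ProjSpace 1 k ⟶ X) (h : ProjSpace 1 k ⟶ ProjSpace 1 k), g ≫ pX = ProjSpace.toSpec 1 k ∧ h ≫ g = f ∧
      Function.Surjective h ∧ Function.Surjective (g.stalkMap (genericPoint (ProjSpace 1 k))) := by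
  obtain ⟨⟨x, φ⟩, hφ⟩ : ∃ p : (x : X) × (X.residueField x ⟶ CommRingCat.of (RatFunc k)),
      Spec.map p.2 ≫ X.fromSpecResidueField p.1 = genP k ≫ f := by
    refine ⟨X.SpecToEquivOfField (RatFunc k) (genP k ≫ f), ?_⟩
    exact (X.SpecToEquivOfField (RatFunc k)).symm_apply_apply (genP k ≫ f)
  simp only at hφ
  obtain ⟨aL, haL⟩ := exists_aL pX x
  have e1 : ∀ c, φ (aL c) = algebraMap k (RatFunc k) c := by
    intro c
    have h1 : Spec.map (CommRingCat.ofHom aL ≫ φ) = Spec.map (CommRingCat.ofHom (algebraMap k (RatFunc k))) := by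
      rw [Spec.map_comp, ← haL, ← Category.assoc, hφ, Category.assoc, hf, genP_toSpec]
    exact congr($(Spec.map_injective h1) c)
  obtain ⟨z, hz⟩ := exists_gen k
  have hx : f (genericPoint (ProjSpace 1 k)) = x := by
    rw [← hz, ← Scheme.Hom.comp_apply, ← hφ, Scheme.Hom.comp_apply]
    exact X.fromSpecResidueField_apply x _
  have hne : ¬ Function.Surjective aL := by
    intro hs
    have hc := isClosed_of_surjective pX x aL haL hs
    apply hnc
    refine ⟨x, ?_⟩
    rintro _ ⟨y, rfl⟩
    have h1 : y ∈ closure {genericPoint (ProjSpace 1 k)} := by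
      rw [genericPoint_closure]; trivial
    have h2 : f y ∈ closure (f '' {genericPoint (ProjSpace 1 k)}) :=
      image_closure_subset_closure_image f.continuous ⟨y, h1, rfl⟩
    rw [Set.image_singleton, hx, hc.closure_eq] at h2
    exact h2
  obtain ⟨ψ, hψ⟩ := K915.Luroth.luroth aL (algebraMap k (RatFunc k)) (RingEquiv.refl _) (fun _ => rfl) φ.hom e1 hne
  obtain ⟨g, hg, hg'⟩ := exists_extension k pX
    (Spec.map (CommRingCat.ofHom (ψ : X.residueField x →+* RatFunc k)) ≫ X.fromSpecResidueField x) (by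
      rw [Category.assoc, haL, ← Spec.map_comp]
      congr 1
      ext c
      exact hψ c)
  have hp : IsProper (ProjSpace.toSpec 1 k) := Groth.Agent.Dix.ProjProper.isProper_toSpec 1 k
  let χ : RatFunc k →+* RatFunc k := φ.hom.comp (ψ.symm : RatFunc k →+* X.residueField x)
  obtain ⟨h, hh, hh'⟩ := exists_extension k (ProjSpace.toSpec 1 k) (Spec.map (CommRingCat.ofHom χ) ≫ genP k) (by
      rw [Category.assoc, genP_toSpec, ← Spec.map_comp]
      congr 1
      ext c
      change φ (ψ.symm (algebraMap k (RatFunc k) c)) = _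
      rw [← hψ, RingEquiv.symm_apply_apply]
      exact e1 c)
  refine ⟨g, h, hg, ?_, surjective_of_genP h hh χ hh', surjective_stalkMap x ψ g hg'⟩
  refine ext_genP pX _ _ (by rw [Category.assoc, hg, hh, hf]) ?_
  rw [← Category.assoc, hh', Category.assoc, hg', ← Category.assoc, ← Spec.map_comp, ← hφ]
  congr 2
  ext c
  change φ (ψ.symm (ψ c)) = φ c
  rw [RingEquiv.symm_apply_apply]

end K988.LurFact
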