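import Groth.Agent.Curves.K988.P1TB
import Groth.Agent.Variety.K430.DiffStalk
import Groth.Agent.S9370
import Groth.Agent.S5005
import Groth.Agent.S8733
import Groth.Agent.Krr.H490.LocBasisPull
import Groth.Agent.Curves.K321.LatRoof
import Groth.Agent.Dual.H339.OmegaRank
import Groth.Agent.Sga5.ProjSmooth

/-!
# The pull-back of `Ω` along a generically immersive rational curve is not trivial
-/

set_option autoImplicit false
universe u

open CategoryTheory CategoryTheory.Limits AlgebraicGeometry Opposite TopologicalSpace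

namespace K988.NotTriv

open Groth.Agent Groth.Agent.Sga67.Sec Groth.Agent.Sga67.LocBasis K988.TwoBase K988.P1Charts
open Groth.Agent.CycB.StalkExact Groth.Agent.Krr.H490.LocBasisPull

variable {k : Type u} [Field k] {X : Scheme.{u}} {pX : X ⟶ Spec (CommRingCat.of k)}

theorem subsingleton_omega (k : Type u) [Field k] :
    Subsingleton (Sec (Omega.sheaf (CohB1.ProjSpace.toSpec 1 k)) ⊤) :=
  subsingleton_sec ((Groth.Agent.S8733.result k 1 le_rfl 1 _ (Groth.Agent.Sga67.TensorOps.isExtPow_one _)).1 0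
    (Or.inl (by decide)))

theorem exists_neg [QuasiSeparated pX] (g : CohB1.ProjSpace 1 k ⟶ X) (hg : g ≫ pX = CohB1.ProjSpace.toSpec 1 k)
    (hs : Function.Surjective (g.stalkMap (genericPoint (CohB1.ProjSpace 1 k)))) {κ : Type} [Fintype κ] {d : κ → ℤ}
    (hd : TB (P1 k) ((Scheme.Modules.pullback g).obj (Omega.sheaf pX)) d) (h0 : ∀ i, d i ≤ 0) :
    ∃ i, d i < 0 := by
  by_contra hcon
  push Not at hcon
  have hz : ∀ i, d i = 0 := fun i => le_antisymm (h0 i) (hcon i)
  obtain ⟨c, hc⟩ := (Groth.Agent.S9370.result pX (CohB1.ProjSpace.toSpec 1 k) g (𝟙 _)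
    (by rw [Category.comp_id, hg]) _ _ (Groth.Agent.S5005.result _) _ _ (Groth.Agent.S5005.result _)).exists
  have hsub := subsingleton_omega k
  obtain ⟨b₀, b₁, h₀, h₁, hb⟩ := hd
  set η := genericPoint (CohB1.ProjSpace 1 k) with hη
  have hmem : ∀ V : (CohB1.ProjSpace 1 k).Opens, (V : Set (CohB1.ProjSpace 1 k)).Nonempty → η ∈ V := by
    rintro V ⟨x, hx⟩
    exact ((genericPoint_spec (CohB1.ProjSpace 1 k)).mem_open_set_iff V.isOpen).2 ⟨x, trivial, hx⟩
  have hη₀ : η ∈ (P1 k).Z₀.1 := by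
    refine hmem _ ?_
    have := (P1 k).nt₀
    by_contra hcon
    rw [Set.not_nonempty_iff_eq_empty] at hcon
    have h3 : (P1 k).Z₀.1 = ⊥ := by
      ext1
      exact hcon
    rw [h3] at this
    exact not_subsingleton _ (inferInstance : Subsingleton Γ(CohB1.ProjSpace 1 k, ⊥))
  have hc0 : ∀ i, appS c _ (b₀ i) = 0 := by
    intro i
    obtain ⟨s, hs₀, hs₁⟩ := exists_glue (C := P1 k) _ (b₀ i) (b₁ i) (by
      rw [hb, hz, Charts.pw_zero, one_smul])
    rw [← hs₀, appS_res, Subsingleton.elim (appS c ⊤ s) 0, map_zero]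
  have hst : stalkLin c η = 0 := by
    refine (stalkBasis h₀ η hη₀).ext fun i => ?_
    rw [stalkBasis_apply, Groth.Agent.Sga67.LocBasisStalk.stalkLin_ger, hc0]
    exact Groth.Agent.Sga67.LocBasisStalk.ger_zero _ _ _
  have hsurj := K430.DiffStalk.surjective_of_surjective (Groth.Agent.S5005.result _) (Groth.Agent.S5005.result _) hc η hs
  have hrk : FlatMod.IsFinLocFreeOfRank 1 (Omega.sheaf (CohB1.ProjSpace.toSpec 1 k)) :=
    Groth.Agent.Dual.H339.OmegaRank.isFinLocFreeOfRank_omega 1 (CohB1.ProjSpace.toSpec 1 k)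
  obtain ⟨U, hU, e, he⟩ := K321.LatRoof.exists_locBasis hrk η
  obtain ⟨t, ht⟩ := hsurj (stalkBasis he η hU 0)
  rw [hst, LinearMap.zero_apply] at ht
  exact (stalkBasis he η hU).ne_zero 0 ht.symm

end K988.NotTriv
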