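import Groth.Agent.Curves.K988.TwoBase
import Groth.Agent.Krr.H490.LocBasisPull

/-!
# Non-positivity in terms of global sections vanishing at a point

* `VP E`: a global section of `E` vanishing at a point is zero.
* `vp_of_TB`: true if `E` has degrees `≤ 0` and global functions form a field.
* `le_zero_of_vp`: if `VP (h^* E)` for a surjective `h`, then the degrees of `E` are `≤ 0`.
-/

set_option autoImplicit false
universe u

open CategoryTheory CategoryTheory.Limits AlgebraicGeometry Opposite TopologicalSpace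

namespace K988.Pos

open Groth.Agent Groth.Agent.Sga67.Sec Groth.Agent.Sga67.LocBasis K988.TwoBase Groth.Agent.Krr.H490.LocBasisPull

variable {Y : Scheme.{u}}

/-- The section `s` vanishes at `y`. -/
def VanAt {E : Y.Modules} (s : Sec E ⊤) (y : Y) : Prop :=
  ∃ (V : Y.Opens) (_ : y ∈ V) (n : ℕ) (a : Fin n → Γ(Y, V)) (e : Fin n → Sec E V),
    (∀ i, y ∉ Y.basicOpen (a i)) ∧ res E (le_top : V ≤ ⊤) s = ∑ i, a i • e i

/-- A global section vanishing at a point is zero. -/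
def VP (E : Y.Modules) : Prop := ∀ (s : Sec E ⊤) (y : Y), VanAt s y → s = 0

theorem VanAt.map {E E' : Y.Modules} (φ : E ⟶ E') {s : Sec E ⊤} {y : Y} (h : VanAt s y) :
    VanAt (appS φ ⊤ s) y := by
  obtain ⟨V, hy, n, a, e, ha, hs⟩ := h
  refine ⟨V, hy, n, a, fun i => appS φ V (e i), ha, ?_⟩
  rw [← appS_res, hs, map_sum]
  exact Finset.sum_congr rfl fun i _ => map_smul _ _ _

theorem VP.of_iso {E E' : Y.Modules} (e : E ≅ E') (h : VP E) : VP E' := by
  intro s y hs
  have h1 := h _ y (hs.map e.inv)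
  have h2 : s = appS e.hom ⊤ (appS e.inv ⊤ s) := by
    have : appS (e.inv ≫ e.hom) ⊤ s = s := by rw [e.inv_hom_id]; rfl
    exact this.symm
  rw [h2, h1, map_zero]

theorem not_mem_basicOpen_sum {V : Y.Opens} {y : Y} (hy : y ∈ V) {n : ℕ} (a b : Fin n → Γ(Y, V))
    (ha : ∀ i, y ∉ Y.basicOpen (a i)) : y ∉ Y.basicOpen (∑ i, a i * b i) := by
  rw [Y.mem_basicOpen _ y hy]
  change _ ∈ nonunits _
  rw [← IsLocalRing.mem_maximalIdeal, map_sum]
  refine Ideal.sum_mem _ fun i _ => ?_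
  rw [map_mul]
  refine Ideal.mul_mem_right _ _ ?_
  rw [IsLocalRing.mem_maximalIdeal, mem_nonunits_iff, ← Y.mem_basicOpen _ y hy]
  exact ha i

/-- Coordinates of a section vanishing at a point vanish at that point. -/
theorem VanAt.coord {E : Y.Modules} {κ : Type} [Fintype κ] {s : Sec E ⊤} {y : Y} (h : VanAt s y) {Z : Y.Opens}
    (hZ : y ∈ Z) {b : κ → Sec E Z} (hb : IsLocBasis b) {c : κ → Γ(Y, Z)}
    (hc : comb b le_rfl c = res E le_top s) (j : κ) : y ∉ Y.basicOpen (c j) := by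
  obtain ⟨V, hy, n, a, e, ha, hs⟩ := h
  let W : Y.Opens := Z ⊓ V
  have hWy : y ∈ W := ⟨hZ, hy⟩
  choose m hm using fun i => (hb W inf_le_left).2 (res E (inf_le_right : W ≤ V) (e i))
  have h1 : comb b inf_le_left (fun l => resO Y (inf_le_left : W ≤ Z) (c l)) =
      comb b inf_le_left (fun l => ∑ i, resO Y (inf_le_right : W ≤ V) (a i) * m i l) := by
    have e1 : comb b inf_le_left (fun l => resO Y (inf_le_left : W ≤ Z) (c l)) =
        res E (le_top : W ≤ ⊤) s := by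
      rw [← res_comb b le_rfl inf_le_left, hc, res_res]
    rw [e1, ← res_res E (le_top : V ≤ ⊤) (inf_le_right : W ≤ V), hs, map_sum]
    have e2 : ∀ i, res E (inf_le_right : W ≤ V) (a i • e i) =
        comb b inf_le_left (fun l => resO Y (inf_le_right : W ≤ V) (a i) * m i l) := by
      intro i
      rw [res_smul, ← hm, ← map_smul]
      rfl
    simp only [e2]
    rw [← map_sum]
    congr 1
    funext l
    rw [Finset.sum_apply]
  have h2 := congrFun ((hb _ inf_le_left).1 h1) j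
  intro hmem
  have h3 : y ∈ Y.basicOpen (resO Y (inf_le_left : W ≤ Z) (c j)) := by
    have := Y.basicOpen_res (c j) (homOfLE (inf_le_left : W ≤ Z)).op
    exact this.symm ▸ ⟨hWy, hmem⟩
  have h2' : resO Y (inf_le_left : W ≤ Z) (c j) = ∑ i, resO Y (inf_le_right : W ≤ V) (a i) * m i j := h2
  rw [h2'] at h3
  refine not_mem_basicOpen_sum hWy _ _ (fun i => ?_) h3
  intro h4
  have := Y.basicOpen_res (a i) (homOfLE (inf_le_right : W ≤ V)).op
  have h5 : y ∈ W ⊓ Y.basicOpen (a i) := this ▸ h4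
  exact ha i h5.2

/-- Gluing functions. -/
theorem exists_glue_fun (C : Charts Y) (s₀ : Γ(Y, C.Z₀.1)) (s₁ : Γ(Y, C.Z₁.1))
    (h : resO Y (inf_le_left : C.O ≤ C.Z₀.1) s₀ = resO Y (inf_le_right : C.O ≤ C.Z₁.1) s₁) :
    ∃ s : Γ(Y, ⊤), resO Y le_top s = s₀ ∧ resO Y le_top s = s₁ := by
  have hcov : (⊤ : Y.Opens) ≤ C.Z₀.1 ⊔ C.Z₁.1 := C.cover.ge
  let V : Bool → Y.Opens := fun i => if i then C.Z₀.1 else C.Z₁.1
  let sf : ∀ i, Γ(Y, V i) := fun i => match i with
    | true => s₀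
    | false => s₁
  have hV : ⊤ ≤ iSup V := hcov.trans (sup_le (le_iSup V true) (le_iSup V false))
  have hcomp : TopCat.Presheaf.IsCompatible Y.presheaf V sf := by
    intro i j
    match i, j with
    | true, true => rfl
    | false, false => rfl
    | true, false => exact h
    | false, true =>
      have h2 : Y.presheaf.map (homOfLE (by rw [inf_comm] : V false ⊓ V true ≤ V true ⊓ V false)).op
          (resO Y (inf_le_left : C.O ≤ C.Z₀.1) s₀) =
          Y.presheaf.map (homOfLE (by rw [inf_comm] : V false ⊓ V true ≤ V true ⊓ V false)).op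
          (resO Y (inf_le_right : C.O ≤ C.Z₁.1) s₁) := by rw [h]
      change Y.presheaf.map _ s₁ = Y.presheaf.map _ s₀
      refine Eq.trans ?_ (h2.symm.trans ?_)
      · change _ = Y.presheaf.map _ (Y.presheaf.map _ s₁)
        rw [← CommRingCat.comp_apply, ← Functor.map_comp]
        rfl
      · change Y.presheaf.map _ (Y.presheaf.map _ s₀) = _
        rw [← CommRingCat.comp_apply, ← Functor.map_comp]
        rfl
  obtain ⟨s, hs, -⟩ := Y.sheaf.existsUnique_gluing' V ⊤ (fun i => homOfLE le_top) hV sf hcomp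
  exact ⟨s, hs true, hs false⟩

/-- Degrees `≤ 0` and a field of global functions. -/
theorem vp_of_TB {C : Charts Y} (hΓ : IsField Γ(Y, ⊤)) {E : Y.Modules} {κ : Type} [Fintype κ] {d : κ → ℤ}
    (h : TB C E d) (hd : ∀ i, d i ≤ 0) : VP E := by
  intro s y hs
  obtain ⟨b₀, b₁, h₀, h₁, hb⟩ := h
  obtain ⟨a₀, ha₀⟩ := (h₀ _ le_rfl).2 (res E le_top s)
  obtain ⟨a₁, ha₁⟩ := (h₁ _ le_rfl).2 (res E le_top s)
  have e₀ : res E (le_top : C.O ≤ ⊤) s = comb b₀ inf_le_left (fun i => resO Y inf_le_left (a₀ i)) := by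
    rw [← res_comb b₀ le_rfl inf_le_left, ha₀, res_res]
  have e₁ : res E (le_top : C.O ≤ ⊤) s =
      comb b₀ inf_le_left (fun i => resO Y inf_le_right (a₁ i) * C.pw (d i)) := by
    rw [← res_res E (le_top : C.Z₁.1 ≤ ⊤) (inf_le_right : C.O ≤ C.Z₁.1), ← ha₁, res_comb, comb_apply, comb_apply]
    refine Finset.sum_congr rfl fun i _ => ?_
    rw [hb, smul_smul]
  have h2 : ∀ i, resO Y inf_le_left (a₀ i) = resO Y inf_le_right (a₁ i) * C.pw (d i) :=
    fun i => congrFun ((h₀ _ inf_le_left).1 (e₀.symm.trans e₁)) i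
  have hcov : y ∈ C.Z₀.1 ⊔ C.Z₁.1 := by rw [C.cover]; trivial
  have h3 : ∀ i, a₀ i = 0 ∧ a₁ i = 0 := by
    intro i
    rcases (hd i).lt_or_eq with hi | hi
    · refine C.neg _ hi _ _ ?_
      rw [mul_comm]
      exact h2 i
    · have h4 := h2 i
      rw [hi, C.pw_zero, mul_one] at h4
      obtain ⟨c, hc₀, hc₁⟩ := exists_glue_fun C _ _ h4
      have hc : c = 0 := by
        by_contra hne
        obtain ⟨c', hc'⟩ := hΓ.mul_inv_cancel hne
        have hu : IsUnit c := IsUnit.of_mul_eq_one _ hc'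
        rcases hcov with hy | hy
        · refine hs.coord hy h₀ ha₀ i ?_
          rw [← hc₀, Y.basicOpen_of_isUnit (hu.map _)]
          exact hy
        · refine hs.coord hy h₁ ha₁ i ?_
          rw [← hc₁, Y.basicOpen_of_isUnit (hu.map _)]
          exact hy
      rw [← hc₀, ← hc₁, hc, map_zero, map_zero]
      exact ⟨rfl, rfl⟩
  have z₀ : a₀ = 0 := funext fun i => (h3 i).1
  have z₁ : a₁ = 0 := funext fun i => (h3 i).2
  have r₀ : res E (le_top : C.Z₀.1 ≤ ⊤) s = 0 := by rw [← ha₀, z₀, map_zero]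
  have r₁ : res E (le_top : C.Z₁.1 ≤ ⊤) s = 0 := by rw [← ha₁, z₁, map_zero]
  refine eq_of_locally E fun x _ => ?_
  have hx : x ∈ C.Z₀.1 ⊔ C.Z₁.1 := by rw [C.cover]; trivial
  rcases hx with hx | hx
  · exact ⟨C.Z₀.1, le_top, hx, r₀.trans (map_zero _).symm⟩
  · exact ⟨C.Z₁.1, le_top, hx, r₁.trans (map_zero _).symm⟩

/-- The coordinate is not a unit. -/
theorem not_isUnit_t (C : Charts Y) : ¬ IsUnit C.t := by
  intro h
  obtain ⟨t', ht'⟩ := h.exists_right_inv
  have h1 : resO Y (inf_le_left : C.O ≤ C.Z₀.1) t' = C.pw (-1) * resO Y (inf_le_right : C.O ≤ C.Z₁.1) 1 := by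
    have h2 : C.pw 1 * resO Y (inf_le_left : C.O ≤ C.Z₀.1) t' = 1 := by
      have h3 : C.pw 1 = resO Y (inf_le_left : C.O ≤ C.Z₀.1) (C.t ^ 1) := C.pw_natCast 1
      rw [h3, pow_one, ← map_mul, ht', map_one]
    rw [map_one, mul_one]
    calc resO Y (inf_le_left : C.O ≤ C.Z₀.1) t' = (C.pw (-1) * C.pw 1) * resO Y (inf_le_left : C.O ≤ C.Z₀.1) t' := by
          rw [C.pw_neg_mul, one_mul]
      _ = C.pw (-1) := by rw [mul_assoc, h2, mul_one]
  have := C.nt₁
  exact one_ne_zero (C.neg (-1) (by omega) _ _ h1).2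

/-- The coordinate vanishes somewhere. -/
theorem exists_zero_t (C : Charts Y) : ∃ y ∈ C.Z₀.1, y ∉ Y.basicOpen C.t := by
  by_contra hcon
  push Not at hcon
  refine not_isUnit_t C ?_
  refine RingedSpace.isUnit_of_isUnit_germ (X := Y.toRingedSpace) C.Z₀.1 C.t fun x hx => ?_
  exact (Y.mem_basicOpen _ x hx).1 (hcon x hx)

theorem le_zero_of_vp {Y' : Scheme.{u}} (C : Charts Y) (h : Y' ⟶ Y) (hs : Function.Surjective h) {E : Y.Modules}
    (hE : VP ((Scheme.Modules.pullback h).obj E)) {κ : Type} [Fintype κ] {d : κ → ℤ} (hd : TB C E d) (i : κ) :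
    d i ≤ 0 := by
  by_contra hi
  push Not at hi
  obtain ⟨n, hn⟩ := Int.eq_succ_of_zero_lt hi
  obtain ⟨b₀, b₁, h₀, h₁, hb⟩ := hd
  obtain ⟨s, hs₀, hs₁⟩ := exists_glue (C := C) E (C.t ^ (n + 1) • b₀ i) (b₁ i) (by
    rw [res_smul, hb, hn]
    congr 1
    exact (C.pw_natCast (n + 1)).symm)
  obtain ⟨y, hy, hyt⟩ := exists_zero_t C
  obtain ⟨y', rfl⟩ := hs y
  have htop : (⊤ : Y'.Opens) ≤ h ⁻¹ᵁ ⊤ := fun _ _ => trivial
  have h0 : psec h E htop s = 0 := by
    refine hE _ y' ⟨h ⁻¹ᵁ C.Z₀.1, hy, 1, fun _ => h.appLE C.Z₀.1 _ le_rfl (C.t ^ (n + 1)),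
      fun _ => psec h E le_rfl (b₀ i), fun _ => ?_, ?_⟩
    · rw [← Scheme.Hom.app_eq_appLE, ← Scheme.preimage_basicOpen]
      intro h1
      have h2 : h y' ∈ Y.basicOpen (C.t ^ (n + 1)) := h1
      rw [Y.basicOpen_pow _ n.succ_pos] at h2
      exact hyt h2
    · rw [Finset.univ_unique, Finset.sum_singleton]
      refine (VarietyB.PullSec.sec_res h E htop le_rfl le_top le_top s).trans ?_
      refine (congrArg (VarietyB.PullSec.sec h E (V := h ⁻¹ᵁ C.Z₀.1) le_rfl) hs₀).trans ?_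
      exact VarietyB.PullSec.sec_smul h E le_rfl _ _
  have e1 : psec h E (le_refl (h ⁻¹ᵁ C.Z₁.1)) (b₁ i) = 0 := by
    refine (congrArg (VarietyB.PullSec.sec h E (V := h ⁻¹ᵁ C.Z₁.1) le_rfl) hs₁).symm.trans ?_
    refine (VarietyB.PullSec.sec_res h E htop le_rfl le_top le_top s).symm.trans ?_
    exact (congrArg (res _ le_top) h0).trans (map_zero _)
  have hn1 := C.nt₁
  have hne : (C.Z₁.1 : Set Y).Nonempty := by
    by_contra hcon
    rw [Set.not_nonempty_iff_eq_empty] at hcon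
    have h3 : C.Z₁.1 = ⊥ := by
      ext1
      exact hcon
    rw [h3] at hn1
    exact not_subsingleton _ (inferInstance : Subsingleton Γ(Y, ⊥))
  obtain ⟨z, hz⟩ := hne
  obtain ⟨z', rfl⟩ := hs z
  have hnt : Nontrivial Γ(Y', h ⁻¹ᵁ C.Z₁.1) := by
    have : Nonempty (h ⁻¹ᵁ C.Z₁.1) := ⟨⟨z', hz⟩⟩
    infer_instance
  exact ((isLocBasis_psec h E (le_refl (h ⁻¹ᵁ C.Z₁.1)) h₁).basis le_rfl).ne_zero i
    (by rw [IsLocBasis.basis_apply]; exact (congrArg (res _ _) e1).trans (map_zero _))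

end K988.Pos
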