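import Groth.Agent.Curves.K988.VeryFree
import Groth.Agent.Curves.K988.Pos
import Groth.Agent.Curves.K988.LurFact
import Groth.Agent.Curves.K988.NotTriv
import Groth.Agent.Picfga.CurveRelDim
import Groth.Agent.S7797
import Groth.Agent.Grass.K652.LfRank

/-!
# Vanishing of the plurigenera of a smooth projective variety with a free rational curve
-/

set_option autoImplicit false
universe u

open CategoryTheory CategoryTheory.Limits AlgebraicGeometry Opposite TopologicalSpace

namespace K988.Free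

open Groth.Agent Groth.Agent.Sga67.Sec Groth.Agent.Sga67.LocBasis K988.TwoBase K988.P1Charts K988.P1TB
open K988.VeryFree K988.Pos

variable {k : Type u} [Field k]

theorem isField_functions (k : Type u) [Field k] : IsField Γ(CohB1.ProjSpace 1 k, ⊤) := by
  have hp : IsProper (CohB1.ProjSpace.toSpec 1 k) := Groth.Agent.Dix.ProjProper.isProper_toSpec 1 k
  exact isField_of_universallyClosed k (CohB1.ProjSpace.toSpec 1 k)

/-- The top exterior power has degree the sum of the degrees. -/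
theorem nb_top {Y : Scheme.{u}} {C : Charts Y} {E L : Y.Modules} {n : ℕ} {e : Fin n → ℤ} (h : TB C E e)
    (h0 : ∀ i, e i ≤ 0) (h1 : ∃ i, e i < 0) (hL : ExtPow.IsExtPow n E L) : NB C L (-1) := by
  refine ⟨_, inferInstance, _, h.extPow hL, fun I => ?_⟩
  have hinj : Function.Injective (Set.powersetCard.ofFinEmbEquiv.symm I : Fin n → Fin n) :=
    (Set.powersetCard.ofFinEmbEquiv.symm I).injective
  have hbij : Function.Bijective (Set.powersetCard.ofFinEmbEquiv.symm I : Fin n → Fin n) :=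
    Finite.injective_iff_bijective.1 hinj
  have hsum : ∑ j, e (Set.powersetCard.ofFinEmbEquiv.symm I j) = ∑ j, e j := hbij.sum_comp e
  rw [hsum]
  obtain ⟨i, hi⟩ := h1
  have h2 : ∑ j, e j < ∑ j : Fin n, (0 : ℤ) := Finset.sum_lt_sum (fun j _ => h0 j) ⟨i, Finset.mem_univ _, hi⟩
  rw [Finset.sum_const_zero] at h2
  omega

/-- **Free curves**. -/
theorem main [IsAlgClosed k] {X : Scheme.{u}} {pX : X ⟶ Spec (CommRingCat.of k)} [IsIntegral X] [Smooth pX]
    (hX : ∃ (N : ℕ) (ι : X ⟶ CohB1.ProjSpace N k), IsClosedImmersion ι ∧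
      ι ≫ CohB1.ProjSpace.toSpec N k = pX) (n : ℕ) (hn : topologicalKrullDim X = n) (f : CohB1.ProjSpace 1 k ⟶ X)
    (hf : f ≫ pX = CohB1.ProjSpace.toSpec 1 k) (hnc : ¬ ∃ x : X, Set.range f.base ⊆ {x})
    (hfree : Subsingleton (Coh.HH (CohB1.ProjSpace 1 k)
      (CohB1.tensorMod ((Scheme.Modules.pullback f).obj (Omega.sheaf pX)) (Twist.twistProjSpace 1 k (-1))) 0))
    (ω : X.Modules) (hω : ExtPow.IsExtPow n (Omega.sheaf pX) ω) (m : ℕ) (hm : 1 ≤ m) :
    Subsingleton (Coh.HH X (CohB1.tensorPow ω m) 0) := by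
  have := isProper_of_proj hX
  have hq : Coh.IsQCoh (Omega.sheaf pX) := Groth.Agent.CurvesB.OmegaStalkDict.isQCoh_omega pX
  have hΩ : FlatMod.IsFinLocFree (Omega.sheaf pX) := Groth.Agent.Lefpen.H721.OmegaSec.isFinLocFree_omega pX
  have hrel : SmoothOfRelativeDimension n pX :=
    Groth.Agent.Picfga.CurveRelDim.smoothOfRelativeDimension_of_topologicalKrullDim_eq k X pX n hn
  have hrk : FlatMod.IsFinLocFreeOfRank n (Omega.sheaf pX) :=
    Groth.Agent.Dual.H339.OmegaRank.isFinLocFreeOfRank_omega n pX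
  -- `f^* Ω` has degrees `≤ 0`
  obtain ⟨n', d, hd⟩ := exists_TB k (Groth.Agent.PerfC.PullRestrict.isFinLocFree_pullback f hΩ)
  have hd0 : ∀ i, d i ≤ 0 := fun i => by
    have h1 := (hd.tensor (tb_twist k (-1))).neg_of_subsingleton (subsingleton_sec hfree) (i, ())
    simp only at h1
    omega
  have hvp : VP ((Scheme.Modules.pullback f).obj (Omega.sheaf pX)) := vp_of_TB (isField_functions k) hd hd0
  obtain ⟨g, h, hg, rfl, hsurj, hst⟩ := K988.LurFact.exists_factor pX f hf hnc
  have hvp' : VP ((Scheme.Modules.pullback h).obj ((Scheme.Modules.pullback g).obj (Omega.sheaf pX))) :=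
    hvp.of_iso ((Scheme.Modules.pullbackComp h g).app (Omega.sheaf pX)).symm
  obtain ⟨e, -, ⟨i⟩⟩ := (Groth.Agent.S7797.result k n ((Scheme.Modules.pullback g).obj (Omega.sheaf pX))
    (K652.LfRank.pullback g hrk)).exists
  have he : TB (P1 k) ((Scheme.Modules.pullback g).obj (Omega.sheaf pX)) e := (tb_coprod k e).of_iso i.symm
  have he0 : ∀ i, e i ≤ 0 := fun i => le_zero_of_vp (P1 k) h hsurj hvp' he i
  have he1 := K988.NotTriv.exists_neg g hg hst he he0
  have hω' := K583.ExtPowPull.isExtPow_pullback g hq hω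
  have hnb : NB (P1 k) ((Scheme.Modules.pullback g).obj ω) (-1) := nb_top he he0 he1 hω'
  obtain ⟨em⟩ := pull_pow g ω m
  refine vanish g hg he he0 (isFinLocFree_tensorPow (isFinLocFree_of_isExtPow hΩ hω) m)
    (P1TB.NB.mono ((hnb.tensorPow m).of_iso em.symm) ?_)
  have h1 : (1 : ℤ) ≤ m := by exact_mod_cast hm
  linarith

end K988.Free
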