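import Groth.Agent.Curves.K988.PairData
import Groth.Agent.Lift.K696.LHom
import Groth.Agent.Sga67.TensorOps

/-!
# Sections of a locally free sheaf vanish along the graph of a curve

`f : Y ⟶ X` over `Spec k`, `X` smooth, `M` finite locally free on `X`, `s` a global section of `M`.
If `Y` is covered by two opens with local bases of `f^* Ω_X` and an elementary vanishing statement holds for
`Sym^j (f^* Ω_X) ⊗ f^* M`, then `s` vanishes to all orders along the graph of `f`.
-/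

set_option autoImplicit false
universe u

open CategoryTheory CategoryTheory.Limits AlgebraicGeometry Opposite TopologicalSpace

namespace K988.Graph

open Groth.Agent.Sga67.Sec Groth.Agent.Sga67.LocBasis Groth.Agent.Krr.H490.LocBasisPull
open Groth.Agent.Lefpen.H721.OmegaSec Groth.Agent.CurvesB.OmegaDer Groth.Agent.CurvesB.OmegaStalkDict
open K988.JetAlg K988.JetMod K988.PairData

variable {k : Type u} [Field k] {X Y : Scheme.{u}} {pX : X ⟶ Spec (CommRingCat.of k)}
  {pY : Y ⟶ Spec (CommRingCat.of k)} {f : Y ⟶ X} (hf : f ≫ pX = pY) {M : X.Modules}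

/-- An affine pair with a local basis of `M`. -/
structure Pair (f : Y ⟶ X) (M : X.Modules) where
  U : X.Opens
  V : Y.Opens
  hU : IsAffineOpen U
  hV : IsAffineOpen V
  h : V ≤ f ⁻¹ᵁ U
  n : ℕ
  e : Fin n → Sec M U
  he : IsLocBasis e

/-- Small pairs exist. -/
theorem exists_pair (f : Y ⟶ X) (hM : FlatMod.IsFinLocFree M) {Z : Y.Opens} {y : Y} (hy : y ∈ Z) {U₀ : X.Opens}
    (hU₀ : f y ∈ U₀) : ∃ p : Pair f M, y ∈ p.V ∧ p.V ≤ Z ∧ p.U ≤ U₀ := by
  obtain ⟨U, hUU, hyU, n, e, he⟩ := Groth.Agent.Sga67.TensorOps.exists_basis_nhd hM hU₀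
  obtain ⟨_, ⟨U', rfl⟩, hyU', hU'⟩ := (Opens.isBasis_iff_nbhd.mp (affineBasis X)) hyU
  obtain ⟨_, ⟨V, rfl⟩, hyV, hV⟩ := (Opens.isBasis_iff_nbhd.mp (affineBasis Y))
    (show y ∈ Z ⊓ f ⁻¹ᵁ U'.1 from ⟨hy, hyU'⟩)
  exact ⟨⟨U'.1, V.1, U'.2, V.2, hV.trans inf_le_right, n, _, he.restrict hU'⟩, hyV, hV.trans inf_le_left,
    hU'.trans hUU⟩

/-- The basis of sections over `U`. -/
noncomputable def Pair.basis (pX : X ⟶ Spec (CommRingCat.of k)) (p : Pair f M) :
    Module.Basis (Fin p.n) (SA pX p.U) (SM pX M p.U) := p.he.basis le_rfl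

/-- `s` has order at least `j` along the graph, near `p`. -/
def Ord (p : Pair f M) (j : ℕ) (s : SM pX M p.U) : Prop := InPow (phi hf p.h) (p.basis pX) j s

theorem Ord.restrict {p p' : Pair f M} (i : p'.U ≤ p.U) (i' : p'.V ≤ p.V) {j : ℕ} {s : SM pX M p.U}
    (hs : Ord hf p j s) : Ord hf p' j (resM pX M i s) :=
  InPow.map (p'.basis pX) (resA pX i) (resA pY i') (resA_phi hf p.h p'.h i i') (resM pX M i)
    (resM_smul pX M i) hs

theorem ord_zero (p : Pair f M) (s : SM pX M p.U) : Ord hf p 0 s := by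
  intro l
  rw [pow_zero, Ideal.one_eq_top]
  trivial

include hf in
/-- The pulled back local basis is linearly independent. -/
theorem linearIndependent_pb (hq : Coh.IsQCoh M) {U : X.Opens} {V : Y.Opens} (hU : IsAffineOpen U)
    (hV : IsAffineOpen V) (h : V ≤ f ⁻¹ᵁ U) (n : ℕ) (e : Module.Basis (Fin n) (SA pX U) (SM pX M U)) :
    LinearIndependent (SA pY V) (fun l => (pb M h (e l) : SM pY ((Scheme.Modules.pullback f).obj M) V)) := by
  have : M.IsQuasicoherent := hq
  have hbc : Groth.Agent.CohqA.BaseChangeMod.IsBC (A := SA pX U) (B := SA pY V) (M := SM pX M U)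
      (N := SM pY ((Scheme.Modules.pullback f).obj M) V) (phi hf h : SA pX U →+* SA pY V)
      (pb (pX := pX) (pY := pY) M h) :=
    Groth.Agent.CohqA.PullbackQCoh.isBC_pbSec f M hU hV h
  let g : SM pX M U →+ (Fin n → SA pY V) :=
    { toFun := fun m l => phi hf h (e.repr m l)
      map_zero' := by ext l; simp
      map_add' := fun a b => by ext l; simp }
  obtain ⟨g', hg', -⟩ := hbc.lift (Fin n → SA pY V) g (fun r x => by
    ext l
    change phi hf h (e.repr (r • x) l) = phi hf h r * phi hf h (e.repr x l)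
    rw [map_smul, Finsupp.smul_apply, smul_eq_mul, map_mul])
  rw [Fintype.linearIndependent_iff]
  intro c hc l
  have h1 := congrArg g' hc
  rw [map_zero, map_sum] at h1
  have h2 := congrFun h1 l
  rw [Finset.sum_apply] at h2
  have h3 : ∀ i, (g' (c i • pb M h (e i)) : Fin n → SA pY V) l = if i = l then c i else 0 := by
    intro i
    rw [map_smul, hg', Pi.smul_apply, smul_eq_mul]
    change c i * phi hf h (e.repr (e i) l) = _
    rw [e.repr_self]
    split_ifs with hil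
    · rw [hil, Finsupp.single_eq_same, map_one, mul_one]
    · rw [Finsupp.single_eq_of_ne (Ne.symm hil), map_zero, mul_zero]
  rw [Finset.sum_congr rfl (fun i _ => h3 i), Finset.sum_ite_eq' Finset.univ l c] at h2
  simpa using h2

variable [QuasiCompact (pullback.diagonal pX)]

section Leads

variable {ι : Type} [Fintype ι]

/-- `w` are the leading coefficients of `s` in degree `j` on the pair `p`, with respect to the basis `b`. -/
def Leads (p : Pair f M) (b : ι → SM pY ((Scheme.Modules.pullback f).obj (Omega.sheaf pX)) p.V) (j : ℕ)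
    (s : SM pX M p.U) (w : (ι →₀ ℕ) → SM pY ((Scheme.Modules.pullback f).obj M) p.V) : Prop :=
  HasLead (phi hf p.h) (dd hf p.h) b (pb M p.h) j s w

variable (hq : Coh.IsQCoh (Omega.sheaf pX))

include hq

omit [Fintype ι] in
theorem Leads.restrict {p p' : Pair f M} (i : p'.U ≤ p.U) (i' : p'.V ≤ p.V)
    {b : ι → SM pY ((Scheme.Modules.pullback f).obj (Omega.sheaf pX)) p.V} {j : ℕ}
    {s : SM pX M p.U} {w : (ι →₀ ℕ) → SM pY ((Scheme.Modules.pullback f).obj M) p.V}
    (H : Leads hf p b j s w) :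
    Leads hf p' (fun l => resM pY _ i' (b l)) j (resM pX M i s) (fun γ => resM pY _ i' (w γ)) :=
  HasLead.map (isUniv_dd hf hq p.hU p.hV p.h) (isUniv_dd hf hq p'.hU p'.hV p'.h) (p'.basis pX)
    (resA pX i) (resA pY i') (resA_phi hf p.h p'.h i i') (resM pY _ i') (resM_smul pY _ i')
    (fun a => resM_dd hf p.h p'.h i i' a) (fun _ => rfl) (resM pX M i) (resM_smul pX M i)
    (resM pY _ i') (resM_smul pY _ i') (pb M p.h) (pb M p'.h) (pb_smul hf M p'.h)
    (fun m => resM_pb M p.h p'.h i i' m) H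

/-- The basis of `f^* Ω` over `V` given by a local basis. -/
noncomputable def bas (E : Y.Modules) {V : Y.Opens} {b : ι → SM pY E V} (hb : IsLocBasis (M := E) (U := V) b) :
    Module.Basis ι (SA pY V) (SM pY E V) := hb.basis le_rfl

omit hq [QuasiCompact (pullback.diagonal pX)] in
theorem coe_bas (E : Y.Modules) {V : Y.Opens} {b : ι → SM pY E V} (hb : IsLocBasis (M := E) (U := V) b) :
    (bas E hb : ι → SM pY E V) = b := by
  funext i
  exact (hb.basis_apply le_rfl i).trans (res_self E le_rfl (b i))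

theorem exists_leads (p : Pair f M) {b : ι → SM pY ((Scheme.Modules.pullback f).obj (Omega.sheaf pX)) p.V}
    (hb : IsLocBasis (M := (Scheme.Modules.pullback f).obj (Omega.sheaf pX)) (U := p.V) b) {j : ℕ}
    {s : SM pX M p.U} (hs : Ord hf p j s) :
    ∃ w, Leads hf p b j s w := by
  obtain ⟨w, hw⟩ := exists_hasLead (isUniv_dd hf hq p.hU p.hV p.h)
    (bas ((Scheme.Modules.pullback f).obj (Omega.sheaf pX)) hb)
    (pb M p.h : SM pX M p.U →+ SM pY ((Scheme.Modules.pullback f).obj M) p.V) (p.basis pX) hs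
  rw [coe_bas] at hw
  exact ⟨w, hw⟩

theorem Leads.unique [Smooth pX] {p : Pair f M}
    {b : ι → SM pY ((Scheme.Modules.pullback f).obj (Omega.sheaf pX)) p.V}
    (hb : IsLocBasis (M := (Scheme.Modules.pullback f).obj (Omega.sheaf pX)) (U := p.V) b) {j : ℕ}
    {s : SM pX M p.U}
    {w w' : (ι →₀ ℕ) → SM pY ((Scheme.Modules.pullback f).obj M) p.V} (H : Leads hf p b j s w)
    (H' : Leads hf p b j s w') : w = w' := by
  have := formallySmooth_SA pX p.hU
  rw [← coe_bas _ hb] at H H'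
  exact HasLead.unique (isUniv_dd hf hq p.hU p.hV p.h)
    (bas ((Scheme.Modules.pullback f).obj (Omega.sheaf pX)) hb) (pb M p.h) (pb_smul hf M p.h) H H'

omit [Fintype ι] in
theorem Leads.ord_succ {p : Pair f M} (hqM : Coh.IsQCoh M)
    {b : ι → SM pY ((Scheme.Modules.pullback f).obj (Omega.sheaf pX)) p.V} {j : ℕ} {s : SM pX M p.U}
    {w : (ι →₀ ℕ) → SM pY ((Scheme.Modules.pullback f).obj M) p.V} (H : Leads hf p b j s w)
    (hw : ∀ γ, w γ = 0) : Ord hf p (j + 1) s :=
  HasLead.inPow_succ (isUniv_dd hf hq p.hU p.hV p.h)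
    (fun n e => linearIndependent_pb hf hqM p.hU p.hV p.h n e) H hw _

omit [Fintype ι] in
theorem Leads.rescale {p : Pair f M}
    {b b' : ι → SM pY ((Scheme.Modules.pullback f).obj (Omega.sheaf pX)) p.V} (r : ι → SA pY p.V)
    (hb : ∀ i, b i = r i • b' i) {j : ℕ} {s : SM pX M p.U}
    {w : (ι →₀ ℕ) → SM pY ((Scheme.Modules.pullback f).obj M) p.V} (H : Leads hf p b j s w) :
    Leads hf p b' j s (fun γ => (γ.prod fun i a => r i ^ a) • w γ) :=
  HasLead.rescale (isUniv_dd hf hq p.hU p.hV p.h) r hb H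

/-- Two families of leading coefficients agree locally. -/
theorem leads_agree [Smooth pX] (hM : FlatMod.IsFinLocFree M) {Z : Y.Opens}
    {b : ι → SM pY ((Scheme.Modules.pullback f).obj (Omega.sheaf pX)) Z}
    (hb : IsLocBasis (M := (Scheme.Modules.pullback f).obj (Omega.sheaf pX)) (U := Z) b) {j : ℕ} (s : SM pX M ⊤)
    {p p' : Pair f M} (hp : p.V ≤ Z) (hp' : p'.V ≤ Z)
    {w : (ι →₀ ℕ) → SM pY ((Scheme.Modules.pullback f).obj M) p.V}
    {w' : (ι →₀ ℕ) → SM pY ((Scheme.Modules.pullback f).obj M) p'.V}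
    (H : Leads hf p (fun l => resM pY _ hp (b l)) j (resM pX M le_top s) w)
    (H' : Leads hf p' (fun l => resM pY _ hp' (b l)) j (resM pX M le_top s) w') (y : Y) (hy : y ∈ p.V)
    (hy' : y ∈ p'.V) : ∃ (V : Y.Opens) (h1 : V ≤ p.V) (h2 : V ≤ p'.V), y ∈ V ∧
      ∀ γ, resM pY _ h1 (w γ) = resM pY _ h2 (w' γ) := by
  obtain ⟨q, hyq, hqV, hqU⟩ := exists_pair f hM (Z := p.V ⊓ p'.V) (y := y) ⟨hy, hy'⟩ (U₀ := p.U ⊓ p'.U)
    ⟨p.h hy, p'.h hy'⟩
  refine ⟨q.V, hqV.trans inf_le_left, hqV.trans inf_le_right, hyq, fun γ => ?_⟩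
  have h1 := Leads.restrict hf hq (hqU.trans inf_le_left) (hqV.trans inf_le_left) H
  have h2 := Leads.restrict hf hq (hqU.trans inf_le_right) (hqV.trans inf_le_right) H'
  simp only [resM_resM] at h1 h2
  exact congrFun (Leads.unique hf hq (hb.restrict (hqV.trans (inf_le_left.trans hp))) h1 h2) γ

/-- **Gluing** of leading coefficients. -/
theorem exists_glue [Smooth pX] (hM : FlatMod.IsFinLocFree M) {Z : Y.Opens}
    {b : ι → SM pY ((Scheme.Modules.pullback f).obj (Omega.sheaf pX)) Z}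
    (hb : IsLocBasis (M := (Scheme.Modules.pullback f).obj (Omega.sheaf pX)) (U := Z) b) {j : ℕ} (s : SM pX M ⊤)
    (hs : ∀ p : Pair f M, p.V ≤ Z → Ord hf p j (resM pX M le_top s)) :
    ∃ w : (ι →₀ ℕ) → SM pY ((Scheme.Modules.pullback f).obj M) Z, ∀ (p : Pair f M) (hp : p.V ≤ Z),
      Leads hf p (fun l => resM pY _ hp (b l)) j (resM pX M le_top s) (fun γ => resM pY _ hp (w γ)) := by
  have hex : ∀ (p : Pair f M) (hp : p.V ≤ Z), ∃ w,
      Leads hf p (fun l => resM pY _ hp (b l)) j (resM pX M le_top s) w := fun p hp =>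
    exists_leads hf hq p (hb.restrict hp) (hs p hp)
  choose w₀ hw₀ using hex
  have key : ∀ γ : ι →₀ ℕ, ∃ w : SM pY ((Scheme.Modules.pullback f).obj M) Z, ∀ (p : Pair f M) (hp : p.V ≤ Z),
      resM pY _ hp w = w₀ p hp γ := by
    intro γ
    obtain ⟨w, hw⟩ := K696.LHom.exists_glue_sec ((Scheme.Modules.pullback f).obj M)
      (ι := {p : Pair f M // p.V ≤ Z}) (W := Z) (fun p => p.1.V) (fun p => p.2)
      (fun y hy => by
        obtain ⟨p, h1, h2, -⟩ := exists_pair f hM hy (U₀ := ⊤) trivial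
        exact ⟨⟨p, h2⟩, h1⟩)
      (fun p => w₀ p.1 p.2 γ) (fun p p' y hy hy' => by
        obtain ⟨V, h1, h2, h3, h4⟩ := leads_agree hf hq hM hb s p.2 p'.2 (hw₀ p.1 p.2) (hw₀ p'.1 p'.2) y hy hy'
        exact ⟨V, h1, h2, h3, h4 γ⟩)
    exact ⟨w, fun p hp => hw ⟨p, hp⟩⟩
  choose w hw using key
  refine ⟨w, fun p hp => ?_⟩
  have : (fun γ => resM pY _ hp (w γ)) = w₀ p hp := funext fun γ => hw γ p hp
  rw [this]
  exact hw₀ p hp

/-- **Main statement**: under an elementary vanishing hypothesis the section `s` vanishes to all orders along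
the graph. -/
theorem ord_all [Smooth pX] (hM : FlatMod.IsFinLocFree M) (hqM : Coh.IsQCoh M) {Z₀ Z₁ : Y.Opens}
    {b₀ : ι → SM pY ((Scheme.Modules.pullback f).obj (Omega.sheaf pX)) Z₀}
    (hb₀ : IsLocBasis (M := (Scheme.Modules.pullback f).obj (Omega.sheaf pX)) (U := Z₀) b₀)
    {b₁ : ι → SM pY ((Scheme.Modules.pullback f).obj (Omega.sheaf pX)) Z₁}
    (hb₁ : IsLocBasis (M := (Scheme.Modules.pullback f).obj (Omega.sheaf pX)) (U := Z₁) b₁)
    (r : ι → SA pY (Z₀ ⊓ Z₁))
    (hr : ∀ i, resM pY _ (inf_le_right : Z₀ ⊓ Z₁ ≤ Z₁) (b₁ i) = r i • resM pY _ (inf_le_left : Z₀ ⊓ Z₁ ≤ Z₀) (b₀ i))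
    (hkey : ∀ (γ : ι →₀ ℕ) (w₀ : SM pY ((Scheme.Modules.pullback f).obj M) Z₀)
      (w₁ : SM pY ((Scheme.Modules.pullback f).obj M) Z₁),
      resM pY _ (inf_le_left : Z₀ ⊓ Z₁ ≤ Z₀) w₀ =
        (γ.prod fun i a => r i ^ a) • resM pY _ (inf_le_right : Z₀ ⊓ Z₁ ≤ Z₁) w₁ → w₀ = 0 ∧ w₁ = 0)
    (s : SM pX M ⊤) (j : ℕ) :
    ∀ p : Pair f M, (p.V ≤ Z₀ ∨ p.V ≤ Z₁) → Ord hf p j (resM pX M le_top s) := by
  induction j with
  | zero => exact fun p _ => ord_zero hf p _
  | succ j ih =>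
    obtain ⟨w₀, hw₀⟩ := exists_glue hf hq hM hb₀ s (fun p hp => ih p (Or.inl hp))
    obtain ⟨w₁, hw₁⟩ := exists_glue hf hq hM hb₁ s (fun p hp => ih p (Or.inr hp))
    have hcompat : ∀ γ, resM pY _ (inf_le_left : Z₀ ⊓ Z₁ ≤ Z₀) (w₀ γ) =
        (γ.prod fun i a => r i ^ a) • resM pY _ (inf_le_right : Z₀ ⊓ Z₁ ≤ Z₁) (w₁ γ) := by
      intro γ
      refine eq_of_locally ((Scheme.Modules.pullback f).obj M) fun y hy => ?_
      obtain ⟨p, hyp, hpV, -⟩ := exists_pair f hM hy (U₀ := ⊤) trivial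
      refine ⟨p.V, hpV, hyp, ?_⟩
      have h1 := Leads.rescale hf hq (p := p) (fun i => resA pY hpV (r i))
        (b := fun l => resM pY _ (hpV.trans inf_le_right) (b₁ l))
        (b' := fun l => resM pY _ (hpV.trans inf_le_left) (b₀ l))
        (fun i => by
          have h2 := congrArg (resM pY _ hpV) (hr i)
          rwa [resM_smul, resM_resM, resM_resM] at h2) (hw₁ p (hpV.trans inf_le_right))
      have h3 := Leads.unique hf hq (hb₀.restrict (hpV.trans inf_le_left)) (hw₀ p (hpV.trans inf_le_left)) h1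
      have h4 := congrFun h3 γ
      change resM pY _ hpV _ = resM pY _ hpV _
      rw [resM_smul, resM_resM, resM_resM, h4]
      congr 1
      rw [Finsupp.prod, Finsupp.prod, map_prod]
      simp only [map_pow]
    have h0 := fun γ => hkey γ (w₀ γ) (w₁ γ) (hcompat γ)
    rintro p (hp | hp)
    · refine Leads.ord_succ hf hq hqM (hw₀ p hp) fun γ => ?_
      rw [(h0 γ).1, map_zero]
    · refine Leads.ord_succ hf hq hqM (hw₁ p hp) fun γ => ?_
      rw [(h0 γ).2, map_zero]

end Leads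

end K988.Graph
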