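import Groth.Agent.Curves.K988.Vanish
import Groth.Agent.Curves.K988.TwoBase

/-!
# Vanishing of sections for curves with two charts
-/

set_option autoImplicit false
universe u

open CategoryTheory CategoryTheory.Limits AlgebraicGeometry Opposite TopologicalSpace

namespace K988.Graph

open Groth.Agent.Sga67.Sec Groth.Agent.Sga67.LocBasis Groth.Agent.Krr.H490.LocBasisPull
open Groth.Agent.Lefpen.H721.OmegaSec Groth.Agent.CurvesB.OmegaDer Groth.Agent.CurvesB.OmegaStalkDict
open K988.JetAlg K988.JetMod K988.PairData K988.TwoBase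

variable {k : Type u} [Field k] [IsAlgClosed k] {X Y : Scheme.{u}} {pX : X ⟶ Spec (CommRingCat.of k)}
  {pY : Y ⟶ Spec (CommRingCat.of k)} {f : Y ⟶ X} (hf : f ≫ pX = pY) {M : X.Modules}
  [QuasiCompact (pullback.diagonal pX)]

include hf in
/-- **Vanishing theorem**: if `f^* Ω_X` has degrees `≤ 0` and `f^* M` has degrees `< 0`, then `M` has no
nonzero sections. -/
theorem eq_zero_of_TB [IsIntegral X] [Smooth pX] [LocallyOfFiniteType pY]
    (hq : Coh.IsQCoh (Omega.sheaf pX)) (hM : FlatMod.IsFinLocFree M) (hqM : Coh.IsQCoh M) (C : Charts Y)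
    {κ : Type} [Fintype κ] {d : κ → ℤ} (hd : TB C ((Scheme.Modules.pullback f).obj (Omega.sheaf pX)) d)
    (hd0 : ∀ i, d i ≤ 0) (hc : NB C ((Scheme.Modules.pullback f).obj M) (-1)) (s : Sec M ⊤) : s = 0 := by
  obtain ⟨b₀, b₁, h₀, h₁, hb⟩ := hd
  obtain ⟨κ', _, c, hc, hc1⟩ := hc
  have hlft : LocallyOfFiniteType pX := inferInstance
  have key := ord_all hf hq hM hqM (Z₀ := C.Z₀.1) (Z₁ := C.Z₁.1) (b₀ := b₀) h₀ (b₁ := b₁) h₁
    (fun i => (C.pw (d i) : Γ(Y, C.O))) hb (fun γ w₀ w₁ hw => by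
      have hpw : (γ.prod fun i a => (C.pw (d i) : Γ(Y, C.O)) ^ a) = C.pw (∑ i ∈ γ.support, γ i * d i) := by
        rw [C.pw_sum, Finsupp.prod]
        exact Finset.prod_congr rfl fun i _ => C.pw_pow _ _
      have hw' : res ((Scheme.Modules.pullback f).obj M) (inf_le_left : C.O ≤ C.Z₀.1) w₀ =
          C.pw (∑ i ∈ γ.support, γ i * d i) •
            res ((Scheme.Modules.pullback f).obj M) (inf_le_right : C.O ≤ C.Z₁.1) w₁ := by
        rw [← hpw]
        exact hw
      refine hc.eq_zero _ (fun i => ?_) w₀ w₁ hw'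
      have h1 : ∑ i ∈ γ.support, (γ i : ℤ) * d i ≤ 0 :=
        Finset.sum_nonpos fun i _ => mul_nonpos_of_nonneg_of_nonpos (Int.natCast_nonneg _) (hd0 i)
      have h2 := hc1 i
      omega) s
  have hZ : ((C.Z₀.1 : Y.Opens) : Set Y).Nonempty := by
    rw [Set.nonempty_iff_ne_empty]
    intro he
    have h1 : C.Z₀.1 = ⊥ := by
      ext x
      have : (x ∈ (C.Z₀.1 : Set Y)) ↔ x ∈ (∅ : Set Y) := by rw [he]
      exact this
    have := C.nt₀
    rw [h1] at this
    exact not_subsingleton _ (inferInstance : Subsingleton Γ(Y, ⊥))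
  exact eq_zero_of_ord hf hM hZ s fun j p hp => key j p (Or.inl hp)

end K988.Graph
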