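import Mathlib.RingTheory.Smooth.Basic
import Mathlib.RingTheory.MvPolynomial.Ideal
import Mathlib.RingTheory.MvPolynomial.Homogeneous
import Mathlib.Algebra.BigOperators.Finprod
import Mathlib.RingTheory.TensorProduct.Basic
import Mathlib.LinearAlgebra.TensorProduct.Tower
import Mathlib.Tactic

/-!
# Leading forms along a graph

`φ : A → B` a homomorphism of `k`-algebras, `A` formally smooth over `k`, `C = B ⊗[k] A`, `I` the kernel of
`C → B`, `b ⊗ a ↦ b φ(a)`.  `d : A → W` is a universal derivation over `φ` (so `W = B ⊗ Ω[A⁄k]`), with a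
basis `b`.  For lifts `x i ∈ I` of `b i` every element of `I ^ j` is congruent modulo `I ^ (j + 1)` to
`P(x)` for a unique homogeneous polynomial `P` of degree `j` over `B`.
-/

set_option autoImplicit false
universe u v w

open scoped TensorProduct
open MvPolynomial

namespace K988.JetAlg

section Cong

variable {R S : Type*} [CommRing R] [CommRing S] [Algebra R S] {ι : Type*}

/-- Products of elements of `K` congruent modulo `K ^ 2`. -/
theorem prod_sub_mem (K : Ideal S) {κ : Type*} (s : Finset κ) (y z : κ → S) (hy : ∀ i ∈ s, y i ∈ K)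
    (hz : ∀ i ∈ s, z i ∈ K) (h : ∀ i ∈ s, y i - z i ∈ K ^ 2) :
    (∏ i ∈ s, y i) - ∏ i ∈ s, z i ∈ K ^ (s.card + 1) ∧ (∏ i ∈ s, y i) ∈ K ^ s.card ∧
      (∏ i ∈ s, z i) ∈ K ^ s.card := by
  classical
  induction s using Finset.induction_on with
  | empty => simp
  | insert a s ha ih =>
    obtain ⟨h1, h2, h3⟩ := ih (fun i hi => hy i (Finset.mem_insert_of_mem hi))
      (fun i hi => hz i (Finset.mem_insert_of_mem hi)) (fun i hi => h i (Finset.mem_insert_of_mem hi))
    have hya := hy a (Finset.mem_insert_self a s)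
    have hza := hz a (Finset.mem_insert_self a s)
    have hh := h a (Finset.mem_insert_self a s)
    rw [Finset.prod_insert ha, Finset.prod_insert ha, Finset.card_insert_of_notMem ha]
    refine ⟨?_, ?_, ?_⟩
    · have e : y a * ∏ i ∈ s, y i - z a * ∏ i ∈ s, z i =
          (y a - z a) * ∏ i ∈ s, y i + z a * (∏ i ∈ s, y i - ∏ i ∈ s, z i) := by ring
      rw [e]
      refine Ideal.add_mem _ ?_ ?_
      · have := Ideal.mul_mem_mul hh h2
        rwa [← pow_add, add_comm 2] at this
      · have := Ideal.mul_mem_mul hza h1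
        rwa [← pow_succ'] at this
    · have := Ideal.mul_mem_mul hya h2
      rwa [← pow_succ'] at this
    · have := Ideal.mul_mem_mul hza h3
      rwa [← pow_succ'] at this

theorem degree_of_mem_support {R : Type*} [CommRing R] {ι : Type*} {j : ℕ} {P : MvPolynomial ι R}
    (hP : P.IsHomogeneous j) {α : ι →₀ ℕ} (hα : α ∈ P.support) : α.degree = j := by
  rw [Finsupp.degree_eq_weight_one]
  exact hP (mem_support_iff.1 hα)

theorem pow_sub_mem (K : Ideal S) {y z : S} (hy : y ∈ K) (hz : z ∈ K) (h : y - z ∈ K ^ 2) (n : ℕ) :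
    y ^ n - z ^ n ∈ K ^ (n + 1) := by
  have := (prod_sub_mem K (Finset.range n) (fun _ => y) (fun _ => z) (fun _ _ => hy) (fun _ _ => hz)
    (fun _ _ => h)).1
  simpa using this

theorem aeval_monomial_mem (K : Ideal S) (z : ι → S) (hz : ∀ i, z i ∈ K) (α : ι →₀ ℕ) (r : R) :
    aeval z (monomial α r) ∈ K ^ α.degree := by
  rw [aeval_monomial, Finsupp.prod]
  refine Ideal.mul_mem_left _ _ ?_
  rw [Finsupp.degree_apply]
  have : ∀ s : Finset ι, (∏ i ∈ s, z i ^ α i) ∈ K ^ (∑ i ∈ s, α i) := by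
    classical
    intro s
    induction s using Finset.induction_on with
    | empty => simp
    | insert a s ha ih =>
      rw [Finset.prod_insert ha, Finset.sum_insert ha, pow_add]
      exact Ideal.mul_mem_mul (Ideal.pow_mem_pow (hz a) _) ih
  exact this _

/-- A homogeneous polynomial of degree `j` in elements of `K` lies in `K ^ j`. -/
theorem aeval_mem (K : Ideal S) (z : ι → S) (hz : ∀ i, z i ∈ K) {j : ℕ} {P : MvPolynomial ι R}
    (hP : P.IsHomogeneous j) : aeval z P ∈ K ^ j := by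
  rw [P.as_sum, map_sum]
  refine Ideal.sum_mem _ fun α hα => ?_
  have := aeval_monomial_mem K z hz α (coeff α P)
  rwa [degree_of_mem_support hP hα] at this

/-- Changing the arguments modulo `K ^ 2` does not matter modulo `K ^ (j + 1)`. -/
theorem aeval_sub_mem (K : Ideal S) (y z : ι → S) (hy : ∀ i, y i ∈ K) (hz : ∀ i, z i ∈ K)
    (h : ∀ i, y i - z i ∈ K ^ 2) {j : ℕ} {P : MvPolynomial ι R} (hP : P.IsHomogeneous j) :
    aeval y P - aeval z P ∈ K ^ (j + 1) := by
  classical
  rw [P.as_sum, map_sum, map_sum, ← Finset.sum_sub_distrib]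
  refine Ideal.sum_mem _ fun α hα => ?_
  rw [aeval_monomial, aeval_monomial, ← mul_sub]
  refine Ideal.mul_mem_left _ _ ?_
  have hd : α.degree = j := degree_of_mem_support hP hα
  rw [Finsupp.prod, Finsupp.prod]
  have key : ∀ s : Finset ι, (∏ i ∈ s, y i ^ α i) - (∏ i ∈ s, z i ^ α i) ∈ K ^ ((∑ i ∈ s, α i) + 1) := by
    intro s
    induction s using Finset.induction_on with
    | empty => simp
    | insert a s ha ih =>
      rw [Finset.prod_insert ha, Finset.prod_insert ha, Finset.sum_insert ha]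
      have e : y a ^ α a * ∏ i ∈ s, y i ^ α i - z a ^ α a * ∏ i ∈ s, z i ^ α i =
          (y a ^ α a - z a ^ α a) * ∏ i ∈ s, y i ^ α i +
            z a ^ α a * (∏ i ∈ s, y i ^ α i - ∏ i ∈ s, z i ^ α i) := by ring
      rw [e]
      have hprod : ∀ t : Finset ι, (∏ i ∈ t, y i ^ α i) ∈ K ^ (∑ i ∈ t, α i) := by
        intro t
        induction t using Finset.induction_on with
        | empty => simp
        | insert c t hc iht =>
          rw [Finset.prod_insert hc, Finset.sum_insert hc, pow_add]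
          exact Ideal.mul_mem_mul (Ideal.pow_mem_pow (hy c) _) iht
      refine Ideal.add_mem _ ?_ ?_
      · have := Ideal.mul_mem_mul (pow_sub_mem K (hy a) (hz a) (h a) (α a)) (hprod s)
        rw [← pow_add] at this
        convert this using 2
        ring
      · have := Ideal.mul_mem_mul (Ideal.pow_mem_pow (hz a) (α a)) ih
        rw [← pow_add] at this
        convert this using 2
        ring
  have := key α.support
  rwa [← Finsupp.degree_apply, hd] at this

end Cong

variable {k A B : Type u} [CommRing k] [CommRing A] [CommRing B] [Algebra k A] [Algebra k B]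
variable (φ : A →ₐ[k] B)

/-- `b ⊗ a ↦ b φ(a)`. -/
noncomputable def mu : B ⊗[k] A →ₐ[B] B :=
  Algebra.TensorProduct.lift (AlgHom.id B B) φ (fun _ _ => Commute.all _ _)

@[simp] theorem mu_tmul (b : B) (a : A) : mu φ (b ⊗ₜ a) = b * φ a := by
  simp [mu]

/-- The ideal of the graph. -/
noncomputable def I : Ideal (B ⊗[k] A) := RingHom.ker (mu φ)

theorem mem_I {c : B ⊗[k] A} : c ∈ I φ ↔ mu φ c = 0 := RingHom.mem_ker

theorem sub_mem_I (c : B ⊗[k] A) : c - algebraMap B _ (mu φ c) ∈ I φ := by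
  rw [mem_I, map_sub, AlgHom.commutes]
  simp

variable {W : Type u} [AddCommGroup W] [Module B W] [Module k W] [IsScalarTower k B W]

/-- Derivations over `φ`. -/
def IsDer (d : A →ₗ[k] W) : Prop := ∀ a a' : A, d (a * a') = φ a • d a' + φ a' • d a

/-- The universal property of `B ⊗ Ω[A⁄k]`. -/
structure IsUniv (d : A →ₗ[k] W) : Prop where
  der : IsDer φ d
  span : Submodule.span B (Set.range d) = ⊤
  desc : ∀ (Q : Type u) [AddCommGroup Q] [Module B Q] [Module k Q] [IsScalarTower k B Q]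
    (δ : A →ₗ[k] Q), IsDer φ δ → ∃ g : W →ₗ[B] Q, ∀ a, g (d a) = δ a

/-- `b ⊗ a ↦ b • d a`. -/
noncomputable def tau (d : A →ₗ[k] W) : B ⊗[k] A →ₗ[B] W := d.liftBaseChange B

@[simp] theorem tau_tmul (d : A →ₗ[k] W) (b : B) (a : A) : tau d (b ⊗ₜ a) = b • d a := by
  simp [tau]

variable {φ} {d : A →ₗ[k] W}

omit [IsScalarTower k B W] in
theorem IsDer.map_one (hd : IsDer φ d) : d 1 = 0 := by
  have := hd 1 1
  simpa using this

theorem tau_mul (hd : IsDer φ d) (c c' : B ⊗[k] A) :
    tau d (c * c') = mu φ c • tau d c' + mu φ c' • tau d c := by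
  induction c with
  | zero => simp
  | add x y hx hy => rw [add_mul, map_add, hx, hy, map_add, map_add, add_smul, smul_add]; abel
  | tmul b a =>
    induction c' with
    | zero => simp
    | add x y hx hy => rw [mul_add, map_add, hx, hy, map_add, map_add, add_smul, smul_add]; abel
    | tmul b' a' =>
      rw [Algebra.TensorProduct.tmul_mul_tmul, tau_tmul, tau_tmul, tau_tmul, mu_tmul, mu_tmul, hd,
        smul_add, smul_smul, smul_smul, smul_smul, smul_smul]
      congr 2 <;> ring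

theorem tau_mul_of_mem (hd : IsDer φ d) (c : B ⊗[k] A) {x : B ⊗[k] A} (hx : x ∈ I φ) :
    tau d (c * x) = mu φ c • tau d x := by
  rw [tau_mul hd, (mem_I φ).1 hx, zero_smul, add_zero]

theorem tau_algebraMap (hd : IsDer φ d) (b : B) : tau d (algebraMap B (B ⊗[k] A) b) = 0 := by
  rw [Algebra.TensorProduct.algebraMap_apply, tau_tmul, hd.map_one]
  simp

/-- `W` is generated by the differentials of elements of `I`. -/
theorem exists_lift (hd : IsUniv φ d) (w : W) : ∃ x ∈ I φ, tau d x = w := by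
  have hw : w ∈ Submodule.span B (Set.range d) := by rw [hd.span]; trivial
  induction hw using Submodule.span_induction with
  | mem y hy =>
    obtain ⟨a, rfl⟩ := hy
    refine ⟨1 ⊗ₜ a - algebraMap B _ (φ a), ?_, ?_⟩
    · rw [mem_I]; simp
    · rw [map_sub, tau_algebraMap hd.der]; simp
  | zero => exact ⟨0, zero_mem _, map_zero _⟩
  | add y z _ _ hy hz =>
    obtain ⟨x, hx, rfl⟩ := hy
    obtain ⟨x', hx', rfl⟩ := hz
    exact ⟨x + x', add_mem hx hx', map_add _ _ _⟩
  | smul b y _ hy =>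
    obtain ⟨x, hx, rfl⟩ := hy
    refine ⟨b • x, ?_, map_smul _ _ _⟩
    rw [mem_I] at hx ⊢
    rw [map_smul, hx, smul_zero]

/-- The universal derivation into `C ⧸ I ^ 2`. -/
theorem mem_sq (hd : IsUniv φ d) {x : B ⊗[k] A} (hx : x ∈ I φ) (h : tau d x = 0) : x ∈ (I φ) ^ 2 := by
  let Q := (B ⊗[k] A) ⧸ (I φ) ^ 2
  let e : A →ₗ[k] (B ⊗[k] A) :=
    (Algebra.TensorProduct.includeRight : A →ₐ[k] B ⊗[k] A).toLinearMap -
      ((Algebra.TensorProduct.includeLeft : B →ₐ[k] B ⊗[k] A).comp φ).toLinearMap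
  have he : ∀ a, e a = (1 : B) ⊗ₜ[k] a - (φ a) ⊗ₜ[k] (1 : A) := fun a => rfl
  have heI : ∀ a, e a ∈ I φ := fun a => by rw [mem_I, he]; simp
  let δ : A →ₗ[k] Q := (Ideal.Quotient.mkₐ k ((I φ) ^ 2)).toLinearMap ∘ₗ e
  have hδ : ∀ a, δ a = Ideal.Quotient.mk ((I φ) ^ 2) (e a) := fun a => rfl
  have hder : IsDer φ δ := by
    intro a a'
    have hsm : ∀ (b : B) (z : B ⊗[k] A), b • (Ideal.Quotient.mk ((I φ) ^ 2) z : Q) =
        Ideal.Quotient.mk ((I φ) ^ 2) ((b ⊗ₜ[k] (1 : A)) * z) := by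
      intro b z
      exact Algebra.smul_def b (Ideal.Quotient.mk ((I φ) ^ 2) z : Q)
    rw [hδ, hδ, hδ, hsm, hsm, ← map_add, Ideal.Quotient.eq]
    have h1 : e (a * a') - ((φ a ⊗ₜ[k] (1 : A)) * e a' + (φ a' ⊗ₜ[k] (1 : A)) * e a) = e a * e a' := by
      simp only [he]
      have h2 : (1 : B) ⊗ₜ[k] (a * a') = ((1 : B) ⊗ₜ[k] a) * ((1 : B) ⊗ₜ[k] a') := by simp
      have h3 : (φ (a * a')) ⊗ₜ[k] (1 : A) = ((φ a) ⊗ₜ[k] (1 : A)) * ((φ a') ⊗ₜ[k] (1 : A)) := by simp
      rw [h2, h3]
      ring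
    rw [h1, pow_two]
    exact Ideal.mul_mem_mul (heI a) (heI a')
  obtain ⟨g, hg⟩ := hd.desc Q δ hder
  have key : g ∘ₗ tau d = ((Ideal.Quotient.mkₐ B ((I φ) ^ 2)).toLinearMap : B ⊗[k] A →ₗ[B] Q) ∘ₗ
      (LinearMap.id - (Algebra.linearMap B (B ⊗[k] A)) ∘ₗ (mu φ).toLinearMap) := by
    apply TensorProduct.AlgebraTensorModule.ext
    intro b a
    rw [LinearMap.comp_apply, tau_tmul, map_smul, hg, hδ]
    have : b • (Ideal.Quotient.mk ((I φ) ^ 2) (e a) : Q) = Ideal.Quotient.mk ((I φ) ^ 2) (b • e a) := rfl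
    rw [this]
    change _ = Ideal.Quotient.mk ((I φ) ^ 2) (b ⊗ₜ[k] a - algebraMap B _ (mu φ (b ⊗ₜ[k] a)))
    congr 1
    rw [he, mu_tmul, Algebra.TensorProduct.algebraMap_apply, smul_sub, TensorProduct.smul_tmul',
      TensorProduct.smul_tmul']
    simp
  have h2 := congrArg (fun l => l x) key
  simp only [LinearMap.comp_apply, h, map_zero] at h2
  have h3 : (0 : Q) = Ideal.Quotient.mk ((I φ) ^ 2) (x - algebraMap B _ (mu φ x)) := h2
  rw [(mem_I φ).1 hx, map_zero, sub_zero] at h3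
  exact Ideal.Quotient.eq_zero_iff_mem.1 h3.symm

variable {ι : Type v} [Finite ι]

/-- Lifts of the basis. -/
def IsLift (φ : A →ₐ[k] B) (d : A →ₗ[k] W) (b : ι → W) (x : ι → B ⊗[k] A) : Prop :=
  ∀ i, x i ∈ I φ ∧ tau d (x i) = b i

omit [Finite ι] in
theorem exists_isLift (hd : IsUniv φ d) (b : ι → W) : ∃ x : ι → B ⊗[k] A, IsLift φ d b x := by
  choose x hx hx' using fun i => exists_lift hd (b i)
  exact ⟨x, fun i => ⟨hx i, hx' i⟩⟩

omit [Finite ι] in
theorem IsLift.sub_mem (hd : IsUniv φ d) {b : ι → W} {x y : ι → B ⊗[k] A} (hx : IsLift φ d b x)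
    (hy : IsLift φ d b y) (i : ι) : x i - y i ∈ (I φ) ^ 2 :=
  mem_sq hd (Ideal.sub_mem _ (hx i).1 (hy i).1) (by rw [map_sub, (hx i).2, (hy i).2, sub_self])

/-- First order expansion of elements of `I`. -/
theorem exists_linear (hd : IsUniv φ d) (b : Module.Basis ι B W) {x : ι → B ⊗[k] A}
    (hx : IsLift φ d b x) {v : B ⊗[k] A} (hv : v ∈ I φ) :
    ∃ P : MvPolynomial ι B, P.IsHomogeneous 1 ∧ v - aeval x P ∈ (I φ) ^ 2 := by
  classical
  have := Fintype.ofFinite ι
  refine ⟨∑ i, C (b.repr (tau d v) i) * X i, ?_, ?_⟩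
  · refine IsHomogeneous.sum _ _ _ fun i _ => ?_
    simpa using (isHomogeneous_C ι (b.repr (tau d v) i)).mul (isHomogeneous_X B i)
  · have h1 : aeval x (∑ i, C (b.repr (tau d v) i) * X i) = ∑ i, b.repr (tau d v) i • x i := by
      rw [map_sum]
      refine Finset.sum_congr rfl fun i _ => ?_
      rw [map_mul, aeval_X, aeval_C, Algebra.smul_def]
    rw [h1]
    refine mem_sq hd ?_ ?_
    · refine sub_mem hv (Ideal.sum_mem _ fun i _ => ?_)
      rw [Algebra.smul_def]
      exact Ideal.mul_mem_left _ _ (hx i).1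
    · rw [map_sub, map_sum]
      have : ∑ i, tau d (b.repr (tau d v) i • x i) = ∑ i, b.repr (tau d v) i • b i :=
        Finset.sum_congr rfl fun i _ => by rw [map_smul, (hx i).2]
      rw [this, b.sum_repr, sub_self]

/-- **Existence** of leading forms. -/
theorem exists_lead (hd : IsUniv φ d) (b : Module.Basis ι B W) {x : ι → B ⊗[k] A}
    (hx : IsLift φ d b x) (j : ℕ) {v : B ⊗[k] A} (hv : v ∈ (I φ) ^ j) :
    ∃ P : MvPolynomial ι B, P.IsHomogeneous j ∧ v - aeval x P ∈ (I φ) ^ (j + 1) := by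
  induction j generalizing v with
  | zero =>
    refine ⟨C (mu φ v), isHomogeneous_C _ _, ?_⟩
    rw [aeval_C, zero_add, pow_one]
    exact sub_mem_I φ v
  | succ j ih =>
    rw [pow_succ'] at hv
    refine Submodule.mul_induction_on hv ?_ ?_
    · intro y hy z hz
      obtain ⟨P, hP, hP'⟩ := exists_linear hd b hx hy
      obtain ⟨Q, hQ, hQ'⟩ := ih hz
      refine ⟨P * Q, by simpa [add_comm] using hP.mul hQ, ?_⟩
      rw [map_mul]
      have e : y * z - aeval x P * aeval x Q = (y - aeval x P) * z + aeval x P * (z - aeval x Q) := by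
        ring
      rw [e]
      refine Ideal.add_mem _ ?_ ?_
      · have := Ideal.mul_mem_mul hP' hz
        rw [← pow_add] at this
        convert this using 2
        ring
      · have h1 : aeval x P ∈ (I φ) ^ 1 := aeval_mem _ _ (fun i => (hx i).1) hP
        have := Ideal.mul_mem_mul h1 hQ'
        rw [← pow_add] at this
        convert this using 2
        ring
    · rintro y z ⟨P, hP, hP'⟩ ⟨Q, hQ, hQ'⟩
      refine ⟨P + Q, hP.add hQ, ?_⟩
      rw [map_add]
      have e : y + z - (aeval x P + aeval x Q) = (y - aeval x P) + (z - aeval x Q) := by ring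
      rw [e]
      exact Ideal.add_mem _ hP' hQ'

section Uniq

variable (b : Module.Basis ι B W)

/-- The first order Taylor map `a ↦ φ(a) + Σ dᵢ(a) Xᵢ`. -/
theorem exists_theta_one (hd : IsDer φ d) :
    ∃ θ : A →ₐ[k] MvPolynomial ι B ⧸ (idealOfVars ι B) ^ 2,
      ∀ a, θ a = Ideal.Quotient.mk _ (C (φ a) + ∑ᶠ i, C (b.repr (d a) i) * X i) := by
  classical
  have := Fintype.ofFinite ι
  let l : A → MvPolynomial ι B := fun a => ∑ i, C (b.repr (d a) i) * X i
  have hl : ∀ a, l a ∈ idealOfVars ι B := fun a =>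
    Ideal.sum_mem _ fun i _ => Ideal.mul_mem_left _ _ (Ideal.subset_span ⟨i, rfl⟩)
  let L : A →ₗ[k] MvPolynomial ι B ⧸ (idealOfVars ι B) ^ 2 :=
    { toFun := fun a => Ideal.Quotient.mk _ (C (φ a) + l a)
      map_add' := fun a a' => by
        rw [← map_add]
        congr 1
        simp only [l, map_add, Finsupp.add_apply, add_mul, Finset.sum_add_distrib]
        ring
      map_smul' := fun r a => by
        have h1 : C (φ (r • a)) + l (r • a) = C (algebraMap k B r) * (C (φ a) + l a) := by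
          simp only [l, map_smul]
          rw [mul_add, Finset.mul_sum]
          congr 1
          · rw [Algebra.smul_def, map_mul]
          · refine Finset.sum_congr rfl fun i _ => ?_
            have h2 : b.repr (r • d a) i = algebraMap k B r * b.repr (d a) i := by
              rw [← algebraMap_smul B r (d a), map_smul, Finsupp.smul_apply, smul_eq_mul]
            rw [h2, map_mul]
            ring
        rw [h1, map_mul, RingHom.id_apply, Algebra.smul_def]
        rfl }
  have hL : ∀ a, L a = Ideal.Quotient.mk _ (C (φ a) + l a) := fun _ => rfl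
  refine ⟨AlgHom.ofLinearMap L ?_ ?_, fun a => ?_⟩
  · rw [hL]
    have : l 1 = 0 := by
      simp only [l, hd.map_one]
      simp
    rw [this]
    simp
  · intro a a'
    rw [hL, hL, hL, ← map_mul, Ideal.Quotient.eq]
    have h1 : l (a * a') = C (φ a) * l a' + C (φ a') * l a := by
      simp only [l, hd a a', map_add, map_smul, Finsupp.add_apply, Finsupp.smul_apply, smul_eq_mul,
        map_mul, add_mul, Finset.sum_add_distrib, Finset.mul_sum]
      congr 1 <;> exact Finset.sum_congr rfl fun i _ => by ring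
    have h2 : C (φ (a * a')) + l (a * a') - (C (φ a) + l a) * (C (φ a') + l a') = -(l a * l a') := by
      rw [h1, map_mul, map_mul]
      ring
    rw [h2, pow_two]
    exact neg_mem (Ideal.mul_mem_mul (hl a) (hl a'))
  · rw [AlgHom.ofLinearMap_apply, hL]
    congr 2
    rw [finsum_eq_sum_of_fintype]

/-- Taylor maps of every order. -/
theorem exists_theta [Algebra.FormallySmooth k A] (hd : IsDer φ d) (j : ℕ) :
    ∃ Θ : B ⊗[k] A →ₐ[B] MvPolynomial ι B ⧸ (idealOfVars ι B) ^ (j + 1),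
      (∀ v ∈ I φ, Θ v ∈ (idealOfVars ι B).map (Ideal.Quotient.mk ((idealOfVars ι B) ^ (j + 1)))) ∧
      ∀ {x : ι → B ⊗[k] A}, IsLift φ d b x → ∀ i, ∃ q ∈ (idealOfVars ι B) ^ 2,
        Θ (x i) = Ideal.Quotient.mk _ (X i + q) := by
  classical
  have := Fintype.ofFinite ι
  set J := idealOfVars ι B with hJ
  obtain ⟨θ₁, hθ₁⟩ := exists_theta_one b hd
  -- `B`-linear extension in order one
  have hΘ₁ : ∀ c : B ⊗[k] A,
      Algebra.TensorProduct.lift (Algebra.ofId B (MvPolynomial ι B ⧸ J ^ 2)) θ₁ (fun _ _ => Commute.all _ _) c =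
        Ideal.Quotient.mk (J ^ 2) (C (mu φ c) + ∑ i, C (b.repr (tau d c) i) * X i) := by
    intro c
    induction c with
    | zero => simp
    | add y z hy hz =>
      rw [map_add, hy, hz, ← map_add]
      congr 1
      simp only [map_add, Finsupp.add_apply, add_mul, Finset.sum_add_distrib]
      ring
    | tmul b' a =>
      rw [Algebra.TensorProduct.lift_tmul, hθ₁, finsum_eq_sum_of_fintype, mu_tmul, tau_tmul]
      have h1 : Algebra.ofId B (MvPolynomial ι B ⧸ J ^ 2) b' = Ideal.Quotient.mk (J ^ 2) (C b') := rfl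
      rw [h1, ← map_mul]
      congr 1
      rw [mul_add, Finset.mul_sum, map_mul, map_smul]
      congr 1
      refine Finset.sum_congr rfl fun i _ => ?_
      rw [Finsupp.smul_apply, smul_eq_mul, map_mul]
      ring
  rcases Nat.eq_zero_or_pos j with rfl | hj
  · refine ⟨Algebra.TensorProduct.lift (Algebra.ofId B _)
      (((Ideal.Quotient.mkₐ k (J ^ (0 + 1))).comp
        (IsScalarTower.toAlgHom k B (MvPolynomial ι B))).comp φ) (fun _ _ => Commute.all _ _), ?_⟩
    have h1 : ∀ c : B ⊗[k] A, Algebra.TensorProduct.lift (Algebra.ofId B (MvPolynomial ι B ⧸ J ^ (0 + 1)))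
        (((Ideal.Quotient.mkₐ k (J ^ (0 + 1))).comp
        (IsScalarTower.toAlgHom k B (MvPolynomial ι B))).comp φ) (fun _ _ => Commute.all _ _) c =
          Ideal.Quotient.mk _ (C (mu φ c)) := by
      intro c
      induction c with
      | zero => simp
      | add y z hy hz => rw [map_add, hy, hz, ← map_add, ← map_add, ← map_add]
      | tmul b' a =>
        rw [Algebra.TensorProduct.lift_tmul, mu_tmul, map_mul, map_mul]
        rfl
    refine ⟨fun v hv => ?_, ?_⟩
    · rw [h1, (mem_I φ).1 hv, map_zero, map_zero]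
      exact zero_mem _
    intro x hx i
    refine ⟨0, zero_mem _, ?_⟩
    rw [h1, (mem_I φ).1 (hx i).1, map_zero, map_zero, add_zero]
    symm
    rw [Ideal.Quotient.eq_zero_iff_mem, zero_add, pow_one]
    exact Ideal.subset_span ⟨i, rfl⟩
  · have hle : J ^ (j + 1) ≤ J ^ 2 := Ideal.pow_le_pow_right (by omega)
    let g : MvPolynomial ι B ⧸ J ^ (j + 1) →ₐ[k] MvPolynomial ι B ⧸ J ^ 2 := Ideal.Quotient.factorₐ k hle
    have hgs : Function.Surjective g := Ideal.Quotient.factor_surjective hle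
    have hnil : IsNilpotent (RingHom.ker (g : MvPolynomial ι B ⧸ J ^ (j + 1) →+* MvPolynomial ι B ⧸ J ^ 2)) := by
      refine ⟨j + 1, ?_⟩
      have hker : RingHom.ker (g : MvPolynomial ι B ⧸ J ^ (j + 1) →+* MvPolynomial ι B ⧸ J ^ 2) ≤
          (J.map (Ideal.Quotient.mk (J ^ (j + 1)))) := by
        intro y hy
        obtain ⟨y, rfl⟩ := Ideal.Quotient.mk_surjective y
        rw [RingHom.mem_ker] at hy
        have hy2 : Ideal.Quotient.mk (J ^ 2) y = 0 := hy
        rw [Ideal.Quotient.eq_zero_iff_mem] at hy2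
        exact Ideal.mem_map_of_mem _ (Ideal.pow_le_self (by norm_num) hy2)
      have h2 : (J.map (Ideal.Quotient.mk (J ^ (j + 1)))) ^ (j + 1) = ⊥ := by
        rw [← Ideal.map_pow, Ideal.map_quotient_self]
      exact le_bot_iff.1 ((Ideal.pow_right_mono hker (j + 1)).trans h2.le)
    let θ : A →ₐ[k] MvPolynomial ι B ⧸ J ^ (j + 1) := Algebra.FormallySmooth.liftOfSurjective θ₁ g hgs hnil
    have hθ : ∀ a, g (θ a) = θ₁ a := Algebra.FormallySmooth.liftOfSurjective_apply θ₁ g hgs hnil
    refine ⟨Algebra.TensorProduct.lift (Algebra.ofId B _) θ (fun _ _ => Commute.all _ _), ?_⟩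
    have h1 : ∀ c : B ⊗[k] A, g (Algebra.TensorProduct.lift (Algebra.ofId B (MvPolynomial ι B ⧸ J ^ (j + 1))) θ
        (fun _ _ => Commute.all _ _) c) =
          Algebra.TensorProduct.lift (Algebra.ofId B (MvPolynomial ι B ⧸ J ^ 2)) θ₁
            (fun _ _ => Commute.all _ _) c := by
      intro c
      induction c with
      | zero => simp
      | add y z hy hz => rw [map_add, map_add, hy, hz, map_add]
      | tmul b' a =>
        rw [Algebra.TensorProduct.lift_tmul, Algebra.TensorProduct.lift_tmul, map_mul, hθ]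
        rfl
    refine ⟨fun v hv => ?_, ?_⟩
    · obtain ⟨P, hP⟩ := Ideal.Quotient.mk_surjective
        (Algebra.TensorProduct.lift (Algebra.ofId B (MvPolynomial ι B ⧸ J ^ (j + 1))) θ
          (fun _ _ => Commute.all _ _) v)
      have h2 := h1 v
      rw [hΘ₁, ← hP, (mem_I φ).1 hv, map_zero, zero_add] at h2
      rw [← hP]
      refine Ideal.mem_map_of_mem _ ?_
      have h3 : Ideal.Quotient.mk (J ^ 2) P = Ideal.Quotient.mk (J ^ 2) (∑ i, C (b.repr (tau d v) i) * X i) := h2
      rw [Ideal.Quotient.eq] at h3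
      have h4 : (∑ i, C (b.repr (tau d v) i) * X i : MvPolynomial ι B) ∈ J :=
        Ideal.sum_mem _ fun i _ => Ideal.mul_mem_left _ _ (Ideal.subset_span ⟨i, rfl⟩)
      have := add_mem (Ideal.pow_le_self (by norm_num) h3) h4
      rwa [sub_add_cancel] at this
    intro x hx i
    obtain ⟨P, hP⟩ := Ideal.Quotient.mk_surjective
      (Algebra.TensorProduct.lift (Algebra.ofId B (MvPolynomial ι B ⧸ J ^ (j + 1))) θ
        (fun _ _ => Commute.all _ _) (x i))
    refine ⟨P - X i, ?_, by rw [add_sub_cancel, hP]⟩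
    rw [← Ideal.Quotient.eq]
    have h2 := h1 (x i)
    rw [hΘ₁, ← hP, (mem_I φ).1 (hx i).1, (hx i).2, map_zero, zero_add] at h2
    have h3 : (∑ l, C (b.repr (b i) l) * X l : MvPolynomial ι B) = X i := by
      rw [Finset.sum_eq_single i]
      · simp
      · intro l _ hl
        rw [b.repr_self, Finsupp.single_eq_of_ne hl]
        simp
      · intro h; exact absurd (Finset.mem_univ i) h
    rw [h3] at h2
    exact h2

/-- **Uniqueness** of leading forms. -/
theorem eq_zero_of_aeval_mem [Algebra.FormallySmooth k A] (hd : IsUniv φ d) {x : ι → B ⊗[k] A}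
    (hx : IsLift φ d b x) (j : ℕ) {P : MvPolynomial ι B} (hP : P.IsHomogeneous j)
    (h : aeval x P ∈ (I φ) ^ (j + 1)) : P = 0 := by
  classical
  obtain ⟨Θ, hI, hΘ⟩ := exists_theta b hd.der j
  choose q hq hq' using hΘ hx
  have h1 : Θ (aeval x P) ∈ ((idealOfVars ι B).map (Ideal.Quotient.mk ((idealOfVars ι B) ^ (j + 1)))) ^ (j + 1) := by
    have h2 : (I φ).map Θ ≤ (idealOfVars ι B).map (Ideal.Quotient.mk ((idealOfVars ι B) ^ (j + 1))) :=
      Ideal.map_le_iff_le_comap.2 hI
    have h3 := Ideal.mem_map_of_mem Θ h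
    rw [Ideal.map_pow] at h3
    exact Ideal.pow_right_mono h2 (j + 1) h3
  rw [← Ideal.map_pow, Ideal.map_quotient_self, Ideal.mem_bot] at h1
  have h2 : Θ (aeval x P) = Ideal.Quotient.mk _ (aeval (fun i => (X i + q i : MvPolynomial ι B)) P) := by
    have e1 : (Θ.comp (aeval x) : MvPolynomial ι B →ₐ[B] _) =
        (Ideal.Quotient.mkₐ B ((idealOfVars ι B) ^ (j + 1))).comp
          (aeval (fun i => (X i + q i : MvPolynomial ι B))) := by
      apply MvPolynomial.algHom_ext
      intro i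
      rw [AlgHom.comp_apply, aeval_X, AlgHom.comp_apply, aeval_X, hq' i]
      rfl
    exact DFunLike.congr_fun e1 P
  rw [h2, Ideal.Quotient.eq_zero_iff_mem] at h1
  have h3 : aeval (fun i => (X i + q i : MvPolynomial ι B)) P - aeval (X : ι → MvPolynomial ι B) P ∈
      (idealOfVars ι B) ^ (j + 1) := by
    refine aeval_sub_mem (idealOfVars ι B) _ _ (fun i => ?_) (fun i => Ideal.subset_span ⟨i, rfl⟩)
      (fun i => ?_) hP
    · exact add_mem (Ideal.subset_span ⟨i, rfl⟩) (Ideal.pow_le_self (by norm_num) (hq i))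
    · rw [add_sub_cancel_left]; exact hq i
  have h4 : P ∈ (idealOfVars ι B) ^ (j + 1) := by
    have := sub_mem h1 h3
    rwa [sub_sub_cancel, aeval_X_left_apply] at this
  rw [mem_pow_idealOfVars_iff'] at h4
  ext α
  rw [coeff_zero]
  by_cases hα : α.degree < j + 1
  · exact h4 α hα
  · by_contra hne
    have := degree_of_mem_support hP (mem_support_iff.2 hne)
    omega

end Uniq

/-- `P` is the leading form of `v` in degree `j`, relative to the family `b` of elements of `W`. -/
def IsLead (φ : A →ₐ[k] B) (d : A →ₗ[k] W) (b : ι → W) (j : ℕ) (v : B ⊗[k] A) (P : MvPolynomial ι B) : Prop :=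
  P.IsHomogeneous j ∧ ∀ x : ι → B ⊗[k] A, IsLift φ d b x → v - aeval x P ∈ (I φ) ^ (j + 1)

omit [Finite ι] in
theorem isLead_of_lift (hd : IsUniv φ d) {b : ι → W} {x : ι → B ⊗[k] A} (hx : IsLift φ d b x) {j : ℕ}
    {v : B ⊗[k] A} {P : MvPolynomial ι B} (hP : P.IsHomogeneous j) (h : v - aeval x P ∈ (I φ) ^ (j + 1)) :
    IsLead φ d b j v P := by
  refine ⟨hP, fun y hy => ?_⟩
  have h1 := aeval_sub_mem (I φ) x y (fun i => (hx i).1) (fun i => (hy i).1) (fun i => hx.sub_mem hd hy i) hP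
  have := Ideal.add_mem _ h h1
  rwa [sub_add_sub_cancel] at this

theorem exists_isLead (hd : IsUniv φ d) (b : Module.Basis ι B W) (j : ℕ) {v : B ⊗[k] A}
    (hv : v ∈ (I φ) ^ j) : ∃ P : MvPolynomial ι B, IsLead φ d b j v P := by
  obtain ⟨x, hx⟩ := exists_isLift hd (b : ι → W)
  obtain ⟨P, hP, h⟩ := exists_lead hd b hx j hv
  exact ⟨P, isLead_of_lift hd hx hP h⟩

theorem IsLead.unique [Algebra.FormallySmooth k A] (hd : IsUniv φ d) (b : Module.Basis ι B W) {j : ℕ}
    {v w : B ⊗[k] A} {P Q : MvPolynomial ι B} (hP : IsLead φ d b j v P) (hQ : IsLead φ d b j w Q)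
    (h : v - w ∈ (I φ) ^ (j + 1)) : P = Q := by
  obtain ⟨x, hx⟩ := exists_isLift hd (b : ι → W)
  have h1 : aeval x (P - Q) ∈ (I φ) ^ (j + 1) := by
    have e : aeval x (P - Q) = (v - w) - (v - aeval x P) + (w - aeval x Q) := by rw [map_sub]; ring
    rw [e]
    exact Ideal.add_mem _ (Ideal.sub_mem _ h (hP.2 x hx)) (hQ.2 x hx)
  have := eq_zero_of_aeval_mem b hd hx j (hP.1.sub hQ.1) h1
  exact sub_eq_zero.1 this

omit [Finite ι] in
theorem IsLead.mem_of_eq_zero (hd : IsUniv φ d) {b : ι → W} {j : ℕ} {v : B ⊗[k] A}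
    (h : IsLead φ d b j v 0) : v ∈ (I φ) ^ (j + 1) := by
  obtain ⟨x, hx⟩ := exists_isLift hd b
  have := h.2 x hx
  rwa [map_zero, sub_zero] at this

omit [Finite ι] in
theorem IsLead.add {b : ι → W} {j : ℕ} {v w : B ⊗[k] A} {P Q : MvPolynomial ι B}
    (hP : IsLead φ d b j v P) (hQ : IsLead φ d b j w Q) : IsLead φ d b j (v + w) (P + Q) := by
  refine ⟨hP.1.add hQ.1, fun x hx => ?_⟩
  have e : v + w - aeval x (P + Q) = (v - aeval x P) + (w - aeval x Q) := by rw [map_add]; ring
  rw [e]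
  exact Ideal.add_mem _ (hP.2 x hx) (hQ.2 x hx)

omit [Finite ι] in
/-- Multiplication by `c` multiplies the leading form by `μ(c)`. -/
theorem IsLead.mul {b : ι → W} {j : ℕ} {v : B ⊗[k] A} {P : MvPolynomial ι B}
    (hP : IsLead φ d b j v P) (hv : v ∈ (I φ) ^ j) (c : B ⊗[k] A) :
    IsLead φ d b j (c * v) (C (mu φ c) * P) := by
  refine ⟨by simpa using (isHomogeneous_C ι (mu φ c)).mul hP.1, fun x hx => ?_⟩
  have e : c * v - aeval x (C (mu φ c) * P) =
      (c - algebraMap B _ (mu φ c)) * v + algebraMap B _ (mu φ c) * (v - aeval x P) := by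
    rw [map_mul, aeval_C]; ring
  rw [e]
  refine Ideal.add_mem _ ?_ (Ideal.mul_mem_left _ _ (hP.2 x hx))
  have := Ideal.mul_mem_mul (sub_mem_I φ c) hv
  rwa [← pow_succ'] at this

omit [Finite ι] in
/-- Rescaling the basis. -/
theorem IsLead.rescale (hd : IsUniv φ d) {b b' : ι → W} (r : ι → B) (hb : ∀ i, b i = r i • b' i) {j : ℕ}
    {v : B ⊗[k] A} {P : MvPolynomial ι B} (hP : IsLead φ d b j v P) :
    IsLead φ d b' j v (aeval (fun i => (C (r i) * X i : MvPolynomial ι B)) P) := by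
  obtain ⟨x', hx'⟩ := exists_isLift hd b'
  have hx : IsLift φ d b (fun i => r i • x' i) := fun i => by
    refine ⟨?_, by rw [map_smul, (hx' i).2, hb]⟩
    change r i • x' i ∈ I φ
    rw [Algebra.smul_def]
    exact Ideal.mul_mem_left _ _ (hx' i).1
  refine isLead_of_lift hd hx' ?_ ?_
  · have := hP.1.aeval (fun i => (C (r i) * X i : MvPolynomial ι B)) (n := 1)
      (fun i => by simpa using (isHomogeneous_C ι (r i)).mul (isHomogeneous_X B i))
    simpa using this
  · have h1 := hP.2 _ hx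
    have e : aeval x' (aeval (fun i => (C (r i) * X i : MvPolynomial ι B)) P) =
        aeval (fun i => r i • x' i) P := by
      have e1 : ((aeval x' : MvPolynomial ι B →ₐ[B] B ⊗[k] A).comp
          (aeval (fun i => (C (r i) * X i : MvPolynomial ι B)))) = aeval (fun i => r i • x' i) := by
        apply MvPolynomial.algHom_ext
        intro i
        rw [AlgHom.comp_apply, aeval_X, aeval_X, map_mul, aeval_X, aeval_C, Algebra.smul_def]
      exact DFunLike.congr_fun e1 P
    rw [e]
    exact h1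

section Nat

variable {A' B' : Type u} [CommRing A'] [CommRing B'] [Algebra k A'] [Algebra k B'] {φ' : A' →ₐ[k] B'}
variable {W' : Type u} [AddCommGroup W'] [Module B' W'] [Module k W'] [IsScalarTower k B' W']
  {d' : A' →ₗ[k] W'}

theorem mu_map (α : A →ₐ[k] A') (β : B →ₐ[k] B') (h : ∀ a, β (φ a) = φ' (α a)) (c : B ⊗[k] A) :
    mu φ' (Algebra.TensorProduct.map β α c) = β (mu φ c) := by
  induction c with
  | zero => simp
  | add x y hx hy => rw [map_add, map_add, map_add, map_add, hx, hy]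
  | tmul b a =>
    rw [mu_tmul, map_mul, h]
    exact mu_tmul φ' _ _

theorem map_mem_I (α : A →ₐ[k] A') (β : B →ₐ[k] B') (h : ∀ a, β (φ a) = φ' (α a)) {c : B ⊗[k] A}
    (hc : c ∈ I φ) : Algebra.TensorProduct.map β α c ∈ I φ' := by
  rw [mem_I, mu_map α β h, (mem_I φ).1 hc, map_zero]

theorem map_mem_I_pow (α : A →ₐ[k] A') (β : B →ₐ[k] B') (h : ∀ a, β (φ a) = φ' (α a)) {c : B ⊗[k] A}
    {n : ℕ} (hc : c ∈ (I φ) ^ n) : Algebra.TensorProduct.map β α c ∈ (I φ') ^ n := by
  have h1 : (I φ).map (Algebra.TensorProduct.map β α) ≤ I φ' :=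
    Ideal.map_le_iff_le_comap.2 fun c hc => map_mem_I α β h hc
  have h2 := Ideal.mem_map_of_mem (Algebra.TensorProduct.map β α) hc
  rw [Ideal.map_pow] at h2
  exact Ideal.pow_right_mono h1 n h2

theorem tau_map (α : A →ₐ[k] A') (β : B →ₐ[k] B') (ω : W →+ W') (hω : ∀ b w, ω (b • w) = β b • ω w)
    (hωd : ∀ a, ω (d a) = d' (α a)) (c : B ⊗[k] A) :
    tau d' (Algebra.TensorProduct.map β α c) = ω (tau d c) := by
  induction c with
  | zero => simp
  | add x y hx hy => rw [map_add, map_add, map_add, map_add, hx, hy]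
  | tmul b a =>
    rw [tau_tmul, hω, hωd]
    exact tau_tmul d' _ _

omit [Finite ι] in
/-- **Naturality** of leading forms. -/
theorem IsLead.map (hd : IsUniv φ d) (hd' : IsUniv φ' d') (α : A →ₐ[k] A') (β : B →ₐ[k] B')
    (h : ∀ a, β (φ a) = φ' (α a)) (ω : W →+ W')
    (hω : ∀ b w, ω (b • w) = β b • ω w) (hωd : ∀ a, ω (d a) = d' (α a)) {b : ι → W} {b' : ι → W'}
    (hb : ∀ i, ω (b i) = b' i) {j : ℕ} {v : B ⊗[k] A} {P : MvPolynomial ι B}
    (hP : IsLead φ d b j v P) :
    IsLead φ' d' b' j (Algebra.TensorProduct.map β α v) (MvPolynomial.map (β : B →+* B') P) := by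
  obtain ⟨x, hx⟩ := exists_isLift hd b
  have hx' : IsLift φ' d' b' (fun i => Algebra.TensorProduct.map β α (x i)) := fun i =>
    ⟨map_mem_I α β h (hx i).1, by rw [tau_map α β ω hω hωd, (hx i).2, hb]⟩
  refine isLead_of_lift hd' hx' (hP.1.map _) ?_
  have h1 := map_mem_I_pow α β h (hP.2 x hx)
  rw [map_sub] at h1
  have e : ((Algebra.TensorProduct.map β α : B ⊗[k] A →ₐ[k] B' ⊗[k] A') : B ⊗[k] A →+* B' ⊗[k] A').comp
      ((aeval x : MvPolynomial ι B →ₐ[B] B ⊗[k] A) : MvPolynomial ι B →+* B ⊗[k] A) =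
      ((aeval (fun i => Algebra.TensorProduct.map β α (x i)) : MvPolynomial ι B' →ₐ[B'] B' ⊗[k] A') :
        MvPolynomial ι B' →+* B' ⊗[k] A').comp (MvPolynomial.map (β : B →+* B')) := by
    apply MvPolynomial.ringHom_ext
    · intro r
      simp [Algebra.TensorProduct.algebraMap_apply]
    · intro i
      simp
  have e' : Algebra.TensorProduct.map β α (aeval x P) =
      aeval (fun i => Algebra.TensorProduct.map β α (x i)) (MvPolynomial.map (β : B →+* B') P) :=
    DFunLike.congr_fun e P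
  rw [e'] at h1
  exact h1

end Nat

/-- Evaluation at a point: an element of `A` whose image `1 ⊗ a` lies in `I ^ j` lies in `𝔪 ^ j` for every
maximal ideal `𝔪` of `A` which is the kernel of `A → B → k`. -/
theorem mem_pow_of_tmul_mem (ψ : B →ₐ[k] k) {a : A} {j : ℕ} (h : (1 : B) ⊗ₜ[k] a ∈ (I φ) ^ j) :
    a ∈ (RingHom.ker (ψ.comp φ)) ^ j := by
  let ev : B ⊗[k] A →ₐ[k] A :=
    Algebra.TensorProduct.lift ((Algebra.ofId k A).comp ψ) (AlgHom.id k A) (fun _ _ => Commute.all _ _)
  have hev : ∀ b a, ev (b ⊗ₜ a) = algebraMap k A (ψ b) * a := fun b a => by simp [ev]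
  have h1 : ∀ c : B ⊗[k] A, ψ (φ (ev c)) = ψ (mu φ c) := by
    intro c
    induction c with
    | zero => simp
    | add x y hx hy => rw [map_add, map_add, map_add, hx, hy, map_add, map_add]
    | tmul b a =>
      rw [hev, mu_tmul, map_mul, map_mul, map_mul, AlgHom.commutes, AlgHom.commutes]
      rfl
  have h2 : (I φ).map ev ≤ RingHom.ker (ψ.comp φ) :=
    Ideal.map_le_iff_le_comap.2 fun c hc => by
      rw [Ideal.mem_comap, RingHom.mem_ker, AlgHom.comp_apply, h1, (mem_I φ).1 hc, map_zero]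
  have h3 := Ideal.mem_map_of_mem ev h
  rw [Ideal.map_pow] at h3
  have h4 := Ideal.pow_right_mono h2 j h3
  rw [hev] at h4
  simpa using h4

end K988.JetAlg
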