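import Groth.Agent.Curves.K988.JetAlg
import Mathlib.RingTheory.IsTensorProduct

/-!
# Leading coefficients of a section of a free module along a graph

Notation of `K988.JetAlg`.  `M` is a free `A`-module, `p : M → N` semilinear over `φ`.  For `s` in `M` with all
coordinates `g l` such that `1 ⊗ g l ∈ I ^ j` the leading coefficients are the elements
`w α = ∑ l, coeff α (P l) • p (e l)` of `N`, where `P l` is the leading form of `1 ⊗ g l`.
They do not depend on the basis `e` of `M` and are natural.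
-/

set_option autoImplicit false
universe u v w

open scoped TensorProduct
open MvPolynomial

namespace K988.JetMod

open K988.JetAlg

section coeff

variable {R : Type*} [CommRing R] {ι : Type*}

theorem coeff_aeval_rescale (r : ι → R) (P : MvPolynomial ι R) (α : ι →₀ ℕ) :
    coeff α (aeval (fun i => (C (r i) * X i : MvPolynomial ι R)) P) =
      (α.prod fun i a => r i ^ a) * coeff α P := by
  classical
  induction P using MvPolynomial.induction_on' with
  | monomial β c =>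
    have h1 : aeval (fun i => (C (r i) * X i : MvPolynomial ι R)) (monomial β c) =
        monomial β ((β.prod fun i a => r i ^ a) * c) := by
      rw [aeval_monomial, monomial_eq]
      simp only [mul_pow, C_mul, Finsupp.prod, map_prod, map_pow, algebraMap_eq,
        Finset.prod_mul_distrib]
      ring
    rw [h1, coeff_monomial, coeff_monomial]
    split_ifs with h
    · rw [h]
    · rw [mul_zero]
  | add p q hp hq => rw [map_add, coeff_add, coeff_add, hp, hq, mul_add]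

end coeff

variable {k A B : Type u} [CommRing k] [CommRing A] [CommRing B] [Algebra k A] [Algebra k B]
  {φ : A →ₐ[k] B} {W : Type u} [AddCommGroup W] [Module B W] [Module k W] [IsScalarTower k B W]
  {d : A →ₗ[k] W} {ι : Type v}
  {M N : Type*} [AddCommGroup M] [Module A M] [AddCommGroup N] [Module B N]
variable {A' B' : Type u} [CommRing A'] [CommRing B'] [Algebra k A'] [Algebra k B'] {φ' : A' →ₐ[k] B'}
  {W' : Type u} [AddCommGroup W'] [Module B' W'] [Module k W'] [IsScalarTower k B' W']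
  {d' : A' →ₗ[k] W'}
  {M' N' : Type*} [AddCommGroup M'] [Module A' M'] [AddCommGroup N'] [Module B' N']

/-- All coordinates `g l` of `s` satisfy `1 ⊗ g l ∈ I ^ j`. -/
def InPow (φ : A →ₐ[k] B) {κ : Type*} (e : Module.Basis κ A M) (j : ℕ) (s : M) : Prop :=
  ∀ l, (1 : B) ⊗ₜ[k] (e.repr s l) ∈ (I φ) ^ j

theorem repr_map {κ κ' : Type*} [Fintype κ] (e : Module.Basis κ A M) (e' : Module.Basis κ' A' M')
    (α : A →ₐ[k] A') (ρ : M →+ M') (hρ : ∀ a m, ρ (a • m) = α a • ρ m) (s : M) (m : κ') :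
    e'.repr (ρ s) m = ∑ l, e'.repr (ρ (e l)) m * α (e.repr s l) := by
  conv_lhs => rw [← e.sum_repr s]
  rw [map_sum, map_sum, Finsupp.finsetSum_apply]
  refine Finset.sum_congr rfl fun l _ => ?_
  rw [hρ, map_smul, Finsupp.smul_apply, smul_eq_mul, mul_comm]

theorem tmul_repr_map {κ κ' : Type*} [Fintype κ] (e : Module.Basis κ A M) (e' : Module.Basis κ' A' M')
    (α : A →ₐ[k] A') (β : B →ₐ[k] B') (ρ : M →+ M') (hρ : ∀ a m, ρ (a • m) = α a • ρ m) (s : M) (m : κ') :
    (1 : B') ⊗ₜ[k] (e'.repr (ρ s) m) = ∑ l, ((1 : B') ⊗ₜ[k] (e'.repr (ρ (e l)) m)) *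
      Algebra.TensorProduct.map β α ((1 : B) ⊗ₜ[k] (e.repr s l)) := by
  rw [repr_map e e' α ρ hρ s m, TensorProduct.tmul_sum]
  refine Finset.sum_congr rfl fun l _ => ?_
  rw [Algebra.TensorProduct.map_tmul, map_one, Algebra.TensorProduct.tmul_mul_tmul, mul_one]

/-- Naturality of `InPow`. -/
theorem InPow.map {κ κ' : Type*} [Fintype κ] {e : Module.Basis κ A M} (e' : Module.Basis κ' A' M')
    (α : A →ₐ[k] A') (β : B →ₐ[k] B') (h : ∀ a, β (φ a) = φ' (α a))
    (ρ : M →+ M') (hρ : ∀ a m, ρ (a • m) = α a • ρ m) {j : ℕ} {s : M} (hs : InPow φ e j s) :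
    InPow φ' e' j (ρ s) := by
  intro m
  rw [tmul_repr_map e e' α β ρ hρ s m]
  exact Ideal.sum_mem _ fun l _ => Ideal.mul_mem_left _ _ (map_mem_I_pow α β h (hs l))

theorem InPow.change {κ κ' : Type*} [Fintype κ] {e : Module.Basis κ A M} (e' : Module.Basis κ' A M)
    {j : ℕ} {s : M} (hs : InPow φ e j s) : InPow φ e' j s :=
  hs.map e' (AlgHom.id k A) (AlgHom.id k B) (fun _ => rfl) (AddMonoidHom.id M) (fun _ _ => rfl)

theorem isLead_zero (hd : IsUniv φ d) (b : ι → W) (j : ℕ) : IsLead φ d b j 0 0 := by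
  obtain ⟨x, hx⟩ := exists_isLift hd b
  exact isLead_of_lift hd hx (isHomogeneous_zero _ _ _) (by simp)

theorem isLead_sum (hd : IsUniv φ d) {κ : Type*} (s : Finset κ) (b : ι → W) (j : ℕ) (v : κ → B ⊗[k] A)
    (P : κ → MvPolynomial ι B) (h : ∀ l ∈ s, IsLead φ d b j (v l) (P l)) :
    IsLead φ d b j (∑ l ∈ s, v l) (∑ l ∈ s, P l) := by
  classical
  induction s using Finset.induction_on with
  | empty => simpa using isLead_zero hd b j
  | insert a s ha ih =>
    rw [Finset.sum_insert ha, Finset.sum_insert ha]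
    exact (h a (Finset.mem_insert_self _ _)).add (ih fun l hl => h l (Finset.mem_insert_of_mem hl))

/-- Naturality and independence of the basis. -/
theorem exists_lead_map (hd : IsUniv φ d) (hd' : IsUniv φ' d') {κ κ' : Type*} [Fintype κ] [Fintype κ']
    {e : Module.Basis κ A M} (e' : Module.Basis κ' A' M')
    (α : A →ₐ[k] A') (β : B →ₐ[k] B') (h : ∀ a, β (φ a) = φ' (α a))
    (ω : W →+ W') (hω : ∀ b w, ω (b • w) = β b • ω w) (hωd : ∀ a, ω (d a) = d' (α a))
    {b : ι → W} {b' : ι → W'} (hb : ∀ i, ω (b i) = b' i)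
    (ρ : M →+ M') (hρ : ∀ a m, ρ (a • m) = α a • ρ m)
    (ρN : N →+ N') (hρN : ∀ b m, ρN (b • m) = β b • ρN m)
    (p : M →+ N) (p' : M' →+ N') (hp' : ∀ a m, p' (a • m) = φ' a • p' m)
    (hpp : ∀ m, ρN (p m) = p' (ρ m))
    {j : ℕ} {s : M} (hs : InPow φ e j s) (P : κ → MvPolynomial ι B)
    (hP : ∀ l, IsLead φ d b j ((1 : B) ⊗ₜ[k] (e.repr s l)) (P l)) :
    ∃ P' : κ' → MvPolynomial ι B', (∀ m, IsLead φ' d' b' j ((1 : B') ⊗ₜ[k] (e'.repr (ρ s) m)) (P' m)) ∧
      ∀ γ, ∑ m, coeff γ (P' m) • p' (e' m) = ρN (∑ l, coeff γ (P l) • p (e l)) := by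
  refine ⟨fun m => ∑ l, C (mu φ' ((1 : B') ⊗ₜ[k] (e'.repr (ρ (e l)) m))) * MvPolynomial.map (β : B →+* B') (P l),
    fun m => ?_, fun γ => ?_⟩
  · rw [tmul_repr_map e e' α β ρ hρ s m]
    refine isLead_sum hd' _ b' j _ _ fun l _ => ?_
    exact IsLead.mul (IsLead.map hd hd' α β h ω hω hωd hb (hP l)) (map_mem_I_pow α β h (hs l)) _
  · have h1 : ∀ l, p' (ρ (e l)) = ∑ m, φ' (e'.repr (ρ (e l)) m) • p' (e' m) := by
      intro l
      conv_lhs => rw [← e'.sum_repr (ρ (e l))]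
      rw [map_sum]
      exact Finset.sum_congr rfl fun m _ => hp' _ _
    rw [map_sum]
    simp only [coeff_sum, Finset.sum_smul, coeff_C_mul, coeff_map, hρN, hpp, h1, Finset.smul_sum]
    rw [Finset.sum_comm]
    refine Finset.sum_congr rfl fun l _ => Finset.sum_congr rfl fun m _ => ?_
    rw [smul_smul]
    congr 1
    have h2 : mu φ' ((1 : B') ⊗ₜ[k] (e'.repr (ρ (e l)) m)) = φ' (e'.repr (ρ (e l)) m) := by
      rw [mu_tmul, one_mul]
    rw [h2, mul_comm]
    rfl

/-- `w` is the family of leading coefficients of `s` in degree `j`. -/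
def HasLead (φ : A →ₐ[k] B) (d : A →ₗ[k] W) (b : ι → W) (p : M →+ N) (j : ℕ) (s : M)
    (w : (ι →₀ ℕ) → N) : Prop :=
  ∃ (n : ℕ) (e : Module.Basis (Fin n) A M) (P : Fin n → MvPolynomial ι B), InPow φ e j s ∧
    (∀ l, IsLead φ d b j ((1 : B) ⊗ₜ[k] (e.repr s l)) (P l)) ∧ ∀ γ, w γ = ∑ l, coeff γ (P l) • p (e l)

theorem exists_hasLead [Finite ι] (hd : IsUniv φ d) (b : Module.Basis ι B W) (p : M →+ N) {j : ℕ} {s : M}
    {n : ℕ} (e : Module.Basis (Fin n) A M) (hs : InPow φ e j s) :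
    ∃ w, HasLead φ d b p j s w := by
  choose P hP using fun l => exists_isLead hd b j (hs l)
  exact ⟨_, n, e, P, hs, hP, fun γ => rfl⟩

theorem HasLead.map (hd : IsUniv φ d) (hd' : IsUniv φ' d') {n' : ℕ} (e' : Module.Basis (Fin n') A' M')
    (α : A →ₐ[k] A') (β : B →ₐ[k] B') (h : ∀ a, β (φ a) = φ' (α a))
    (ω : W →+ W') (hω : ∀ b w, ω (b • w) = β b • ω w) (hωd : ∀ a, ω (d a) = d' (α a))
    {b : ι → W} {b' : ι → W'} (hb : ∀ i, ω (b i) = b' i)
    (ρ : M →+ M') (hρ : ∀ a m, ρ (a • m) = α a • ρ m)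
    (ρN : N →+ N') (hρN : ∀ b m, ρN (b • m) = β b • ρN m)
    (p : M →+ N) (p' : M' →+ N') (hp' : ∀ a m, p' (a • m) = φ' a • p' m)
    (hpp : ∀ m, ρN (p m) = p' (ρ m))
    {j : ℕ} {s : M} {w : (ι →₀ ℕ) → N} (H : HasLead φ d b p j s w) :
    HasLead φ' d' b' p' j (ρ s) (fun γ => ρN (w γ)) := by
  obtain ⟨n, e, P, hs, hP, hw⟩ := H
  obtain ⟨P', hP', hw'⟩ := exists_lead_map hd hd' e' α β h ω hω hωd hb ρ hρ ρN hρN p p' hp' hpp hs P hP
  refine ⟨n', e', P', hs.map e' α β h ρ hρ, hP', fun γ => ?_⟩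
  rw [hw', ← hw]

theorem HasLead.unique [Finite ι] [Algebra.FormallySmooth k A] (hd : IsUniv φ d) (b : Module.Basis ι B W)
    (p : M →+ N) (hp : ∀ a m, p (a • m) = φ a • p m)
    {j : ℕ} {s : M} {w w' : (ι →₀ ℕ) → N} (H : HasLead φ d b p j s w) (H' : HasLead φ d b p j s w') :
    w = w' := by
  obtain ⟨n, e, P, hs, hP, hw⟩ := H
  obtain ⟨n', e', P', hs', hP', hw'⟩ := H'
  obtain ⟨Q, hQ, hQw⟩ := exists_lead_map hd hd e' (AlgHom.id k A) (AlgHom.id k B) (fun _ => rfl)
    (AddMonoidHom.id W) (fun _ _ => rfl) (fun _ => rfl) (b := b) (b' := b) (fun _ => rfl)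
    (AddMonoidHom.id M) (fun _ _ => rfl) (AddMonoidHom.id N) (fun _ _ => rfl) p p hp (fun _ => rfl) hs P hP
  have h1 : Q = P' := by
    funext m
    exact IsLead.unique hd b (hQ m) (hP' m) (by
      rw [AddMonoidHom.id_apply, sub_self]; exact zero_mem _)
  funext γ
  rw [hw, hw', ← h1]
  exact (hQw γ).symm

/-- If the leading coefficients vanish then `s` has order `j + 1`. -/
theorem HasLead.inPow_succ (hd : IsUniv φ d) {b : ι → W} {p : M →+ N}
    (hp : ∀ (n : ℕ) (e : Module.Basis (Fin n) A M), LinearIndependent B (fun l => p (e l)))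
    {j : ℕ} {s : M} {w : (ι →₀ ℕ) → N} (H : HasLead φ d b p j s w) (hw0 : ∀ γ, w γ = 0)
    {κ : Type*} (e' : Module.Basis κ A M) : InPow φ e' (j + 1) s := by
  obtain ⟨n, e, P, hs, hP, hw⟩ := H
  have h1 : ∀ l, P l = 0 := by
    intro l
    ext γ
    have h2 := hw γ
    rw [hw0] at h2
    have := Fintype.linearIndependent_iff.1 (hp n e) (fun l => coeff γ (P l)) h2.symm l
    rw [this, coeff_zero]
  have h2 : InPow φ e (j + 1) s := fun l => IsLead.mem_of_eq_zero hd (by rw [← h1 l]; exact hP l)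
  exact h2.change e'

theorem HasLead.rescale (hd : IsUniv φ d) {b b' : ι → W} (r : ι → B) (hb : ∀ i, b i = r i • b' i)
    {p : M →+ N} {j : ℕ} {s : M} {w : (ι →₀ ℕ) → N} (H : HasLead φ d b p j s w) :
    HasLead φ d b' p j s (fun γ => (γ.prod fun i a => r i ^ a) • w γ) := by
  obtain ⟨n, e, P, hs, hP, hw⟩ := H
  refine ⟨n, e, _, hs, fun l => IsLead.rescale hd r hb (hP l), fun γ => ?_⟩
  simp only [hw, coeff_aeval_rescale, Finset.smul_sum, smul_smul]

end K988.JetMod
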