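import Groth.Agent.Curves.K988.P1Charts
import Groth.Agent.Curves.K317.P1Split
import Groth.Agent.S11674
import Groth.Agent.ASBun.K791.Tens
import Groth.Agent.OmegaSh.K583.ExtPowPull

/-!
# Locally free sheaves on the projective line, in the two standard charts

* `exists_TB`: every finite locally free module on `P¹` is glued by powers of `τ`.
* `NB.pullPow`: degrees of `f^* (M ^ ⊗m)`.
-/

set_option autoImplicit false
universe u

open CategoryTheory CategoryTheory.Limits AlgebraicGeometry Opposite TopologicalSpace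

namespace K988.P1TB

open Groth.Agent.Sga67.Sec Groth.Agent.Sga67.LocBasis K988.TwoBase K988.P1Charts Groth.Agent.ASBun.K791.Tens

/-- The zero module has the empty basis. -/
theorem tb_zero {Y : Scheme.{u}} (C : Charts Y) {E : Y.Modules} (hE : IsZero E) : TB C E (fun i : Fin 0 => i.elim0) := by
  have hs : ∀ V : Y.Opens, Subsingleton (Sec E V) := fun V => by
    refine ⟨fun a b => ?_⟩
    have h1 : (𝟙 E : E ⟶ E) = 0 := hE.eq_of_src _ _
    have h2 : ∀ s : Sec E V, s = 0 := fun s => by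
      have : appS (𝟙 E) V s = appS (0 : E ⟶ E) V s := by rw [h1]
      exact this
    rw [h2 a, h2 b]
  have hb : ∀ {U : Y.Opens} (b : Fin 0 → Sec E U), IsLocBasis b := fun b V hV =>
    ⟨fun x y _ => Subsingleton.elim _ _, fun s => ⟨0, (hs V).elim _ _⟩⟩
  exact ⟨fun i => i.elim0, fun i => i.elim0, hb _, hb _, fun i => i.elim0⟩

/-- **Splitting** in terms of charts. -/
theorem exists_TB (k : Type u) [Field k] {E : (CohB1.ProjSpace 1 k).Modules} (hE : FlatMod.IsFinLocFree E) :
    ∃ (n : ℕ) (d : Fin n → ℤ), TB (P1 k) E d := by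
  by_cases h0 : IsZero E
  · exact ⟨0, _, tb_zero _ h0⟩
  · have hc : Coh.IsCoh E := Groth.Agent.PerfA.CohSerre.isCoh_of_isFinLocFree hE
    obtain ⟨r, a, ⟨e⟩⟩ := (Groth.Agent.S11674.result k 1 le_rfl E hc h0).2
      ⟨K317.P1Split.vanish hE, fun n i h1 h2 => absurd h1 (not_le.2 h2)⟩
    exact ⟨r, a, (tb_coprod k a).of_iso e.symm⟩

theorem isFinLocFree_tensorPow {X : Scheme.{u}} {L : X.Modules} (hL : FlatMod.IsFinLocFree L) (n : ℕ) :
    FlatMod.IsFinLocFree (CohB1.tensorPow L n) := by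
  induction n with
  | zero => exact Groth.Agent.Sga67.TensorOps.isFinLocFree_structureModule
  | succ n ih => exact isFinLocFree_tensorMod ih hL

/-- `f^*(L^{⊗ a}) ≅ (f^* L)^{⊗ a}`. -/
theorem pull_pow {X Y : Scheme.{u}} (f : X ⟶ Y) (L : Y.Modules) (a : ℕ) :
    Nonempty ((Scheme.Modules.pullback f).obj (CohB1.tensorPow L a) ≅
      CohB1.tensorPow ((Scheme.Modules.pullback f).obj L) a) := by
  induction a with
  | zero => exact ⟨pullUnit f⟩
  | succ a ih =>
    obtain ⟨φ⟩ := ih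
    exact ⟨pullTens f _ _ ≪≫ tensMap φ (Iso.refl _)⟩

theorem NB.mono {Y : Scheme.{u}} {C : Charts Y} {E : Y.Modules} {N N' : ℤ} (h : NB C E N) (hN : N ≤ N') :
    NB C E N' := by
  obtain ⟨κ, _, d, hd, h⟩ := h
  exact ⟨κ, _, d, hd, fun i => (h i).trans hN⟩

/-- Degrees of the pull-back of tensor powers of exterior powers. -/
theorem nb_pull {X Y : Scheme.{u}} {C : Charts Y} (f : Y ⟶ X) {Ω E : X.Modules} (hΩ : Coh.IsQCoh Ω) {N : ℤ}
    (h : NB C ((Scheme.Modules.pullback f).obj Ω) N) {p : ℕ} (hE : ExtPow.IsExtPow p Ω E) (m : ℕ) :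
    NB C ((Scheme.Modules.pullback f).obj (CohB1.tensorPow E m)) (m * (p * N)) := by
  obtain ⟨e⟩ := pull_pow f E m
  exact (((h.extPow (K583.ExtPowPull.isExtPow_pullback f hΩ hE)).tensorPow m)).of_iso e.symm

end K988.P1TB
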