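import Groth.Agent.Lefpen.H721.OmegaSec
import Groth.Agent.Krr.H490.LocBasisPull
import Groth.Agent.CohqA.PullbackQCoh
import Groth.Agent.Curves.K988.JetMod

/-!
# The universal derivation over an affine pair

`f : Y ⟶ X` over `Spec k`, `U ⊆ X` and `V ⊆ f ⁻¹ U` affine.
`dd : Γ(X, U) → Γ(f^* Ω_X, V)` is a universal derivation over `Γ(X, U) → Γ(Y, V)` (`isUniv_dd`).
-/

set_option autoImplicit false
universe u

open CategoryTheory CategoryTheory.Limits AlgebraicGeometry Opposite TopologicalSpace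

namespace K988.PairData

open Groth.Agent.Sga67.Sec Groth.Agent.Sga67.LocBasis Groth.Agent.Krr.H490.LocBasisPull
open Groth.Agent.Lefpen.H721.OmegaSec Groth.Agent.CurvesB.OmegaDer Groth.Agent.CurvesB.OmegaStalkDict
open K988.JetAlg

variable {k : Type u} [Field k] {X Y : Scheme.{u}} (pX : X ⟶ Spec (CommRingCat.of k))
  (pY : Y ⟶ Spec (CommRingCat.of k))

/-- Sections of a module, as a module over `SA p V` and over the base field. -/
def SM (_ : Y ⟶ Spec (CommRingCat.of k)) (E : Y.Modules) (V : Y.Opens) : Type u := Sec E V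

noncomputable instance (E : Y.Modules) (V : Y.Opens) : AddCommGroup (SM pY E V) :=
  inferInstanceAs (AddCommGroup (Sec E V))

noncomputable instance (E : Y.Modules) (V : Y.Opens) : Module (SA pY V) (SM pY E V) :=
  inferInstanceAs (Module Γ(Y, V) (Sec E V))

noncomputable instance (E : Y.Modules) (V : Y.Opens) : Module k (SM pY E V) :=
  Module.compHom _ (algebraMap k (SA pY V))

instance (E : Y.Modules) (V : Y.Opens) : IsScalarTower k (SA pY V) (SM pY E V) :=
  ⟨fun a b c => by
    rw [Algebra.smul_def, mul_smul]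
    rfl⟩

theorem SM_smul_def (E : Y.Modules) (V : Y.Opens) (c : k) (s : SM pY E V) :
    c • s = algebraMap k (SA pY V) c • s := rfl

/-- Restriction. -/
noncomputable def resM (E : Y.Modules) {V W : Y.Opens} (h : W ≤ V) : SM pY E V →+ SM pY E W := res E h

theorem resM_smul (E : Y.Modules) {V W : Y.Opens} (h : W ≤ V) (r : SA pY V) (s : SM pY E V) :
    resM pY E h (r • s) = resA pY h r • resM pY E h s := res_smul E h r s

theorem resM_resM (E : Y.Modules) {V W T : Y.Opens} (h : W ≤ V) (h' : T ≤ W) (s : SM pY E V) :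
    resM pY E h' (resM pY E h s) = resM pY E (h'.trans h) s := res_res E h h' s

variable {pX pY} {f : Y ⟶ X} (hf : f ≫ pX = pY)

include hf in
theorem appLE_secHom {U : X.Opens} {V : Y.Opens} (h : V ≤ f ⁻¹ᵁ U) (c : k) :
    f.appLE U V h (secHom pX U c) = secHom pY V c := by
  subst hf
  rw [secHom_eq, secHom_eq]
  exact congr($(Scheme.Hom.appLE_comp_appLE f pX ⊤ U V le_top h) ((Scheme.ΓSpecIso (CommRingCat.of k)).inv c))

/-- The homomorphism of `k`-algebras of an affine pair. -/
noncomputable def phi {U : X.Opens} {V : Y.Opens} (h : V ≤ f ⁻¹ᵁ U) : SA pX U →ₐ[k] SA pY V :=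
  { (f.appLE U V h).hom with
    commutes' := fun c => appLE_secHom hf h c }

theorem phi_apply {U : X.Opens} {V : Y.Opens} (h : V ≤ f ⁻¹ᵁ U) (a : Γ(X, U)) :
    phi hf h a = f.appLE U V h a := rfl

theorem resA_phi {U U' : X.Opens} {V V' : Y.Opens} (h : V ≤ f ⁻¹ᵁ U) (h' : V' ≤ f ⁻¹ᵁ U') (i : U' ≤ U)
    (j : V' ≤ V) (a : SA pX U) : resA pY j (phi hf h a) = phi hf h' (resA pX i a) := by
  have h1 : f.appLE U V h ≫ Y.presheaf.map (homOfLE j).op = X.presheaf.map (homOfLE i).op ≫ f.appLE U' V' h' := by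
    rw [Scheme.Hom.appLE_map, Scheme.Hom.map_appLE]
  exact congr($h1 a)

/-- Pull-back of sections. -/
noncomputable def pb (M : X.Modules) {U : X.Opens} {V : Y.Opens} (h : V ≤ f ⁻¹ᵁ U) :
    SM pX M U →+ SM pY ((Scheme.Modules.pullback f).obj M) V :=
  Groth.Agent.VarietyB.PullSec.sec f M h

theorem pb_smul (M : X.Modules) {U : X.Opens} {V : Y.Opens} (h : V ≤ f ⁻¹ᵁ U) (a : SA pX U) (m : SM pX M U) :
    (pb M h (a • m) : SM pY _ V) = phi hf h a • pb M h m :=
  Groth.Agent.VarietyB.PullSec.sec_smul f M h a m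

omit hf in
theorem resM_pb (M : X.Modules) {U U' : X.Opens} {V V' : Y.Opens} (h : V ≤ f ⁻¹ᵁ U) (h' : V' ≤ f ⁻¹ᵁ U')
    (i : U' ≤ U) (j : V' ≤ V) (m : SM pX M U) :
    resM pY _ j (pb M h m) = (pb M h' (resM pX M i m) : SM pY _ V') :=
  Groth.Agent.VarietyB.PullSec.sec_res f M h h' i j m

omit hf in
theorem isLocBasis_pb (M : X.Modules) {U : X.Opens} {V : Y.Opens} (h : V ≤ f ⁻¹ᵁ U) {κ : Type*} [Fintype κ]
    {e : κ → Sec M U} (he : IsLocBasis e) :
    IsLocBasis (M := (Scheme.Modules.pullback f).obj M) (U := V)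
      (fun l => (pb (pX := pX) (pY := pY) M h (e l) : SM pY _ V)) := isLocBasis_psec f M h he

section Omega

variable [QuasiCompact (pullback.diagonal pX)]

/-- The universal derivation with values in `SM`. -/
noncomputable def dS (pX : X ⟶ Spec (CommRingCat.of k)) [QuasiCompact (pullback.diagonal pX)] (U : X.Opens) :
    SA pX U →+ SM pX (Omega.sheaf pX) U := d pX U

theorem dS_smul (U : X.Opens) (c : k) (a : SA pX U) : dS pX U (c • a) = algebraMap k (SA pX U) c • dS pX U a := by
  rw [Algebra.smul_def]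
  have h1 : d pX U (secHom pX U c * (show Γ(X, U) from a)) = secHom pX U c • d pX U a := by
    rw [d_mul, d_secHom, smul_zero, add_zero]
  exact h1

theorem dS_mul (U : X.Opens) (a a' : SA pX U) : dS pX U (a * a') = a • dS pX U a' + a' • dS pX U a :=
  d_mul pX U a a'

/-- The derivation `a ↦ f^* (d a)`. -/
noncomputable def dd {U : X.Opens} {V : Y.Opens} (h : V ≤ f ⁻¹ᵁ U) :
    SA pX U →ₗ[k] SM pY ((Scheme.Modules.pullback f).obj (Omega.sheaf pX)) V where
  toFun a := pb (pX := pX) (Omega.sheaf pX) h (dS pX U a)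
  map_add' a b := by rw [map_add, map_add]
  map_smul' c a := by
    rw [dS_smul, pb_smul hf, RingHom.id_apply, AlgHom.commutes]
    rfl

theorem dd_apply {U : X.Opens} {V : Y.Opens} (h : V ≤ f ⁻¹ᵁ U) (a : SA pX U) :
    dd hf h a = pb (pX := pX) (Omega.sheaf pX) h (dS pX U a) := rfl

theorem resM_dd {U U' : X.Opens} {V V' : Y.Opens} (h : V ≤ f ⁻¹ᵁ U) (h' : V' ≤ f ⁻¹ᵁ U') (i : U' ≤ U)
    (j : V' ≤ V) (a : SA pX U) : resM pY _ j (dd hf h a) = dd hf h' (resA pX i a) := by
  rw [dd_apply, dd_apply, resM_pb _ h h' i j]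
  congr 1
  exact d_res pX i a

theorem isDer_dd {U : X.Opens} {V : Y.Opens} (h : V ≤ f ⁻¹ᵁ U) : IsDer (phi hf h) (dd hf h) := by
  intro a a'
  rw [dd_apply, dS_mul, map_add, pb_smul hf, pb_smul hf]
  rfl

omit hf in
theorem exists_equiv {U : X.Opens} (hU : IsAffineOpen U) :
    ∃ e : Ω[SA pX U⁄k] ≃ₗ[SA pX U] SM pX (Omega.sheaf pX) U,
      ∀ s : SA pX U, e (KaehlerDifferential.D k (SA pX U) s) = dS pX U s := exists_omega_equiv pX hU

theorem isUniv_dd (hq : Coh.IsQCoh (Omega.sheaf pX)) {U : X.Opens} {V : Y.Opens} (hU : IsAffineOpen U)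
    (hV : IsAffineOpen V) (h : V ≤ f ⁻¹ᵁ U) : IsUniv (phi hf h) (dd hf h) := by
  have : (Omega.sheaf pX).IsQuasicoherent := hq
  have hbc : Groth.Agent.CohqA.BaseChangeMod.IsBC (A := SA pX U) (B := SA pY V) (M := SM pX (Omega.sheaf pX) U)
      (N := SM pY ((Scheme.Modules.pullback f).obj (Omega.sheaf pX)) V) (phi hf h : SA pX U →+* SA pY V)
      (pb (pX := pX) (pY := pY) (Omega.sheaf pX) h) :=
    Groth.Agent.CohqA.PullbackQCoh.isBC_pbSec f (Omega.sheaf pX) hU hV h
  obtain ⟨e, he⟩ := exists_equiv (pX := pX) hU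
  have hspan : ∀ m : SM pX (Omega.sheaf pX) U, (pb (Omega.sheaf pX) h m : SM pY _ V) ∈
      Submodule.span (SA pY V) (Set.range (dd hf h)) := by
    intro m
    obtain ⟨x, rfl⟩ := e.surjective m
    have hx : x ∈ Submodule.span (SA pX U) (Set.range (KaehlerDifferential.D k (SA pX U))) := by
      rw [KaehlerDifferential.span_range_derivation]; trivial
    induction hx using Submodule.span_induction with
    | mem x hx =>
      obtain ⟨a, rfl⟩ := hx
      rw [he]
      exact Submodule.subset_span ⟨a, rfl⟩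
    | zero =>
      rw [map_zero, map_zero]
      exact zero_mem _
    | add x y _ _ hx hy =>
      rw [map_add, map_add]
      exact add_mem hx hy
    | smul a x _ hx =>
      rw [map_smul, pb_smul hf]
      exact Submodule.smul_mem _ _ hx
  refine ⟨isDer_dd hf h, ?_, ?_⟩
  · -- span
    let S := Submodule.span (SA pY V) (Set.range (dd hf h))
    have h1 : S.mkQ = 0 := by
      obtain ⟨g', -, hu⟩ := hbc.lift (_ ⧸ S) (0 : SM pX (Omega.sheaf pX) U →+ _)
        (fun r x => by simp)
      have e1 := hu S.mkQ (fun x => by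
        change S.mkQ _ = 0
        rw [Submodule.mkQ_apply, Submodule.Quotient.mk_eq_zero]
        exact hspan x)
      have e2 := hu 0 (fun x => rfl)
      rw [e1, e2]
    rw [eq_top_iff]
    intro w _
    have := LinearMap.congr_fun h1 w
    rwa [LinearMap.zero_apply, Submodule.mkQ_apply, Submodule.Quotient.mk_eq_zero] at this
  · intro Q _ _ _ _ δ hδ
    let : Module (SA pX U) Q := Module.compHom Q (phi hf h : SA pX U →+* SA pY V)
    have : IsScalarTower k (SA pX U) Q := ⟨fun c a q => by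
      change phi hf h (c • a) • q = c • (phi hf h a • q)
      rw [map_smul, smul_assoc]⟩
    let D : Derivation k (SA pX U) Q :=
      { toLinearMap := δ
        map_one_eq_zero' := hδ.map_one
        leibniz' := fun a b => hδ a b }
    let g₀ : SM pX (Omega.sheaf pX) U →+ Q :=
      (D.liftKaehlerDifferential : Ω[SA pX U⁄k] →ₗ[SA pX U] Q).toAddMonoidHom.comp e.symm.toLinearMap.toAddMonoidHom
    have hg₀ : ∀ (r : SA pX U) (x : SM pX (Omega.sheaf pX) U), g₀ (r • x) = phi hf h r • g₀ x := by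
      intro r x
      change D.liftKaehlerDifferential (e.symm (r • x)) = _
      have e1 : e.symm (r • x) = r • e.symm x := map_smul e.symm r x
      rw [e1, map_smul]
      rfl
    obtain ⟨g, hg, -⟩ := hbc.lift Q g₀ hg₀
    refine ⟨g, fun a => ?_⟩
    refine (hg (dS pX U a)).trans ?_
    change D.liftKaehlerDifferential (e.symm (dS pX U a)) = δ a
    rw [← he, LinearEquiv.symm_apply_apply, Derivation.liftKaehlerDifferential_comp_D]
    rfl

end Omega

section Alg

variable (pX)

theorem formallySmooth_SA [Smooth pX] {U : X.Opens} (hU : IsAffineOpen U) :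
    Algebra.FormallySmooth k (SA pX U) := by
  have h1 : (pX.appLE ⊤ U le_top).hom.Smooth := Scheme.Hom.smooth_appLE pX (isAffineOpen_top _) hU le_top
  have h2 : (secHom pX U).Smooth := by
    have e : secHom pX U = (pX.appLE ⊤ U le_top).hom.comp (Scheme.ΓSpecIso (CommRingCat.of k)).symm.commRingCatIsoToRingEquiv.toRingHom := by
      ext a
      rfl
    rw [e]
    exact RingHom.Smooth.respectsIso.2 _ _ h1
  exact (show Algebra.Smooth k (SA pX U) from h2).formallySmooth

theorem finiteType_SA [LocallyOfFiniteType pX] {U : X.Opens} (hU : IsAffineOpen U) :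
    Algebra.FiniteType k (SA pX U) := by
  have h1 : (pX.appLE ⊤ U le_top).hom.FiniteType := LocallyOfFiniteType.finiteType_appLE pX (isAffineOpen_top _) hU le_top
  have h2 : (secHom pX U).FiniteType := by
    have e : secHom pX U = (pX.appLE ⊤ U le_top).hom.comp (Scheme.ΓSpecIso (CommRingCat.of k)).symm.commRingCatIsoToRingEquiv.toRingHom := by
      ext a
      rfl
    rw [e]
    exact RingHom.finiteType_respectsIso.2 _ _ h1
  exact h2

end Alg

end K988.PairData
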