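import Groth.Agent.Curves.K988.Graph
import Mathlib.RingTheory.Filtration
import Mathlib.RingTheory.Jacobson.Ring

/-!
# A section vanishing to all orders along the graph of a curve is zero
-/

set_option autoImplicit false
universe u

open CategoryTheory CategoryTheory.Limits AlgebraicGeometry Opposite TopologicalSpace

namespace K988.Graph

open Groth.Agent.Sga67.Sec Groth.Agent.Sga67.LocBasis Groth.Agent.Krr.H490.LocBasisPull
open Groth.Agent.Lefpen.H721.OmegaSec Groth.Agent.CurvesB.OmegaDer Groth.Agent.CurvesB.OmegaStalkDict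
open K988.JetAlg K988.JetMod K988.PairData
open scoped TensorProduct

theorem exists_algHom {k B : Type u} [Field k] [IsAlgClosed k] [CommRing B] [Nontrivial B] [Algebra k B]
    [Algebra.FiniteType k B] : Nonempty (B →ₐ[k] k) := by
  obtain ⟨m, hm⟩ := Ideal.exists_maximal B
  let _ := Ideal.Quotient.field m
  have h1 : Module.Finite k (B ⧸ m) := finite_of_finite_type_of_isJacobsonRing _ _
  have h2 : Algebra.IsIntegral k (B ⧸ m) := inferInstance
  have h3 := IsAlgClosed.algebraMap_bijective_of_isIntegral (k := k) (K := B ⧸ m)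
  let e := AlgEquiv.ofBijective (Algebra.ofId k (B ⧸ m)) h3
  exact ⟨e.symm.toAlgHom.comp (Ideal.Quotient.mkₐ k m)⟩

/-- Krull's intersection theorem along a graph. -/
theorem eq_zero_of_tmul_mem {k A B : Type u} [Field k] [IsAlgClosed k] [CommRing A] [IsDomain A] [CommRing B]
    [Nontrivial B] [Algebra k A] [Algebra k B] [Algebra.FiniteType k A] [Algebra.FiniteType k B] (φ : A →ₐ[k] B)
    {a : A} (h : ∀ j : ℕ, (1 : B) ⊗ₜ[k] a ∈ (I φ) ^ j) : a = 0 := by
  obtain ⟨ψ⟩ := exists_algHom (k := k) (B := B)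
  have : IsNoetherianRing A := Algebra.FiniteType.isNoetherianRing k A
  have hne : RingHom.ker (ψ.comp φ) ≠ ⊤ := RingHom.ker_ne_top _
  have h1 := Ideal.iInf_pow_eq_bot_of_isDomain _ hne
  have h2 : a ∈ ⨅ j : ℕ, (RingHom.ker (ψ.comp φ)) ^ j :=
    Ideal.mem_iInf.2 fun j => mem_pow_of_tmul_mem ψ (h j)
  rw [h1] at h2
  exact h2

/-- Sections of a finite locally free module on an integral scheme which vanish on a nonempty open vanish. -/
theorem eq_zero_of_res {X : Scheme.{u}} [IsIntegral X] {M : X.Modules} (hM : FlatMod.IsFinLocFree M) (s : Sec M ⊤)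
    {U : X.Opens} (hU : (U : Set X).Nonempty) (h : res M (le_top : U ≤ ⊤) s = 0) : s = 0 := by
  refine eq_of_locally M fun x _ => ?_
  obtain ⟨V, -, hxV, n, b, hb⟩ := Groth.Agent.Sga67.TensorOps.exists_basis_nhd hM (U := ⊤) (x := x) trivial
  refine ⟨V, le_top, hxV, ?_⟩
  obtain ⟨a, ha⟩ := (hb V le_rfl).2 (res M le_top s)
  obtain ⟨z, hz⟩ := hU
  obtain ⟨y, hyV, hyU⟩ := (PreirreducibleSpace.isPreirreducible_univ (X := X)) V U V.2 U.2 ⟨x, trivial, hxV⟩
    ⟨z, trivial, hz⟩ |>.imp fun y hy => hy.2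
  have h1 : comb b (inf_le_left : V ⊓ U ≤ V) (fun i => resO X inf_le_left (a i)) = 0 := by
    rw [← res_comb b le_rfl inf_le_left, ha, res_res, ← res_res M (le_top : U ≤ ⊤) (inf_le_right : V ⊓ U ≤ U), h,
      map_zero]
  have h2 : (fun i => resO X (inf_le_left : V ⊓ U ≤ V) (a i)) = 0 :=
    (hb _ inf_le_left).1 (h1.trans (map_zero _).symm)
  have h3 : a = 0 := by
    funext i
    have : Nonempty ((V ⊓ U : X.Opens)) := ⟨⟨y, hyV, hyU⟩⟩
    have hinj : Function.Injective (resO X (inf_le_left : V ⊓ U ≤ V)) :=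
      map_injective_of_isIntegral X (homOfLE (inf_le_left : V ⊓ U ≤ V))
    exact hinj ((congrFun h2 i).trans (map_zero _).symm)
  rw [← ha, h3, map_zero, map_zero]

variable {k : Type u} [Field k] [IsAlgClosed k] {X Y : Scheme.{u}} {pX : X ⟶ Spec (CommRingCat.of k)}
  {pY : Y ⟶ Spec (CommRingCat.of k)} {f : Y ⟶ X} (hf : f ≫ pX = pY) {M : X.Modules}

/-- A section vanishing to all orders along the graph is zero. -/
theorem eq_zero_of_ord [IsIntegral X] [LocallyOfFiniteType pX] [LocallyOfFiniteType pY]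
    (hM : FlatMod.IsFinLocFree M) {Z : Y.Opens} (hZ : (Z : Set Y).Nonempty) (s : SM pX M ⊤)
    (h : ∀ (j : ℕ) (p : Pair f M), p.V ≤ Z → Ord hf p j (resM pX M le_top s)) : s = 0 := by
  obtain ⟨y, hy⟩ := hZ
  obtain ⟨p, hyp, hpV, -⟩ := exists_pair f hM hy (U₀ := ⊤) trivial
  have : Nonempty p.U := ⟨⟨f y, p.h hyp⟩⟩
  have : Nonempty p.V := ⟨⟨y, hyp⟩⟩
  have : IsDomain (SA pX p.U) := inferInstanceAs (IsDomain Γ(X, p.U))
  have : Nontrivial (SA pY p.V) := inferInstanceAs (Nontrivial Γ(Y, p.V))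
  have := finiteType_SA pX p.hU
  have := finiteType_SA pY p.hV
  have h1 : ∀ l, (p.basis pX).repr (resM pX M le_top s) l = 0 := fun l =>
    eq_zero_of_tmul_mem (phi hf p.h) fun j => h j p hpV l
  have h2 : resM pX M (le_top : p.U ≤ ⊤) s = 0 := by
    rw [← (p.basis pX).sum_repr (resM pX M le_top s)]
    exact Finset.sum_eq_zero fun l _ => by rw [h1 l, zero_smul]
  exact eq_zero_of_res hM s ⟨f y, p.h hyp⟩ h2

end K988.Graph
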