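import Groth.Agent.Curves.K988.GraphTB
import Groth.Agent.Curves.K988.P1TB
import Groth.Agent.PerfC.PullRestrict

/-!
# Vanishing of tensor differential forms on a variety with a very free rational curve
-/

set_option autoImplicit false
universe u

open CategoryTheory CategoryTheory.Limits AlgebraicGeometry Opposite TopologicalSpace

namespace K988.VeryFree

open Groth.Agent.Sga67.Sec Groth.Agent.Sga67.LocBasis K988.TwoBase K988.P1Charts K988.P1TB
open Groth.Agent.Lefpen.H721.OmegaSec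

variable {k : Type u} [Field k] [IsAlgClosed k] {X : Scheme.{u}} {pX : X ⟶ Spec (CommRingCat.of k)}

omit [IsAlgClosed k] in
theorem isProper_of_proj (hX : ∃ (N : ℕ) (ι : X ⟶ CohB1.ProjSpace N k), IsClosedImmersion ι ∧
      ι ≫ CohB1.ProjSpace.toSpec N k = pX) : IsProper pX := by
  obtain ⟨N, ι, hι, h⟩ := hX
  have : IsProper (CohB1.ProjSpace.toSpec N k) := Groth.Agent.Dix.ProjProper.isProper_toSpec N k
  rw [← h]
  infer_instance

theorem hh_zero_of_sections {M : X.Modules} (h : ∀ s : Sec M ⊤, s = 0) : Subsingleton (Coh.HH X M 0) := by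
  have h1 : Subsingleton (Sec M ⊤) := ⟨fun a b => by rw [h a, h b]⟩
  exact (Groth.Agent.VarietyA.H0Equiv.hZeroEquiv M).toEquiv.subsingleton_congr.mpr h1

/-- The general vanishing statement. -/
theorem vanish [IsIntegral X] [Smooth pX] [IsSeparated pX] (f : CohB1.ProjSpace 1 k ⟶ X)
    (hf : f ≫ pX = CohB1.ProjSpace.toSpec 1 k) {κ : Type} [Fintype κ] {d : κ → ℤ}
    (hd : TB (P1 k) ((Scheme.Modules.pullback f).obj (Omega.sheaf pX)) d)
    (hd0 : ∀ i, d i ≤ 0) {M : X.Modules} (hM : FlatMod.IsFinLocFree M)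
    (hc : NB (P1 k) ((Scheme.Modules.pullback f).obj M) (-1)) : Subsingleton (Coh.HH X M 0) := by
  have hq : Coh.IsQCoh (Omega.sheaf pX) := Groth.Agent.CurvesB.OmegaStalkDict.isQCoh_omega pX
  have hp : IsProper (CohB1.ProjSpace.toSpec 1 k) := Groth.Agent.Dix.ProjProper.isProper_toSpec 1 k
  have : IsLocallyNoetherian X := LocallyOfFiniteType.isLocallyNoetherian pX
  have hqM : Coh.IsQCoh M := (Groth.Agent.PerfA.CohSerre.isCoh_of_isFinLocFree hM).1
  exact hh_zero_of_sections fun s =>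
    Graph.eq_zero_of_TB hf hq hM hqM (P1 k) hd hd0 hc s

/-- **Very free curves**. -/
theorem main [IsIntegral X] [Smooth pX] (hX : ∃ (N : ℕ) (ι : X ⟶ CohB1.ProjSpace N k), IsClosedImmersion ι ∧
      ι ≫ CohB1.ProjSpace.toSpec N k = pX) (f : CohB1.ProjSpace 1 k ⟶ X)
    (hf : f ≫ pX = CohB1.ProjSpace.toSpec 1 k)
    (hvfree : Subsingleton (Coh.HH (CohB1.ProjSpace 1 k) ((Scheme.Modules.pullback f).obj (Omega.sheaf pX)) 0))
    (p : ℕ) (hp : 1 ≤ p) (E : X.Modules) (hE : ExtPow.IsExtPow p (Omega.sheaf pX) E) (m : ℕ) (hm : 1 ≤ m) :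
    Subsingleton (Coh.HH X (CohB1.tensorPow E m) 0) := by
  have := isProper_of_proj hX
  have hq : Coh.IsQCoh (Omega.sheaf pX) := Groth.Agent.CurvesB.OmegaStalkDict.isQCoh_omega pX
  have hΩ : FlatMod.IsFinLocFree (Omega.sheaf pX) := isFinLocFree_omega pX
  obtain ⟨n, d, hd⟩ := exists_TB k (Groth.Agent.PerfC.PullRestrict.isFinLocFree_pullback f hΩ)
  have hneg : ∀ i, d i < 0 := hd.neg_of_subsingleton (subsingleton_sec hvfree)
  have hnb : NB (P1 k) ((Scheme.Modules.pullback f).obj (Omega.sheaf pX)) (-1) :=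
    ⟨Fin n, inferInstance, d, hd, fun i => by have := hneg i; omega⟩
  refine vanish f hf hd (fun i => (hneg i).le)
    (isFinLocFree_tensorPow (isFinLocFree_of_isExtPow hΩ hE) m) (P1TB.NB.mono (nb_pull f hq hnb hE m) ?_)
  have h1 : (1 : ℤ) ≤ m * p := by exact_mod_cast Nat.mul_pos hm hp
  linarith [mul_neg_one (m * (p : ℤ)), mul_assoc (m : ℤ) p (-1)]

end K988.VeryFree
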